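import Groth.Agent.L04.FTorsD.IdealJ
import Groth.Agent.L04.DerComp.TzGen
import Groth.Agent.L04.DerComp.ProperComplete
import Groth.Agent.L17.IndRpush.CohAcyclic
import Groth.Agent.L17.FSheaf.CohSect
import Groth.Agent.L29.DCoh.QRlim
import Groth.Agent.L09.IndCoh.Cov

/-!
# Complexes with coherent cohomology on a formal scheme are derived complete

The groups of morphisms from `j_! O_V`, `V` affine, are the modules of sections of the cohomology sheaves, which are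
finite over a complete Noetherian ring.
-/

set_option autoImplicit false
set_option linter.style.haveILetI false
set_option linter.unusedSectionVars false
set_option backward.defeqAttrib.useBackward true
set_option backward.isDefEq.respectTransparency false
set_option backward.isDefEq.respectTransparency.types false

universe u

open CategoryTheory CategoryTheory.Limits AlgebraicGeometry TopologicalSpace Opposite CategoryTheory.Pretriangulated
  Groth.L17.FSheaf Groth.L09.IndCoh Groth.L04.DerComp Groth.L10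

noncomputable section

attribute [local instance] HasDerivedCategory.standard

namespace Groth.L04.FTorsD

variable {𝔛 : FSch.Sys.{u}} (hX : 𝔛.IsLocNoethFormal)

/-- Affine opens cover, with arbitrarily fine affine coverings. -/
def affineCover : LocalDetect.Cover (ModSite.Mod (𝔛.Osh hX.1)) {V : (𝔛.X 0).Opens | IsAffineOpen V} :=
  SiteCover.cover (𝔛.Osh hX.1) {V : (𝔛.X 0).Opens | IsAffineOpen V}
    (Groth.L29.DC.QRlim.exists_affine_cover (𝔛.X 0)) (fun _ => {V : (𝔛.X 0).Opens | IsAffineOpen V}) fun V T hT => by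
      refine ⟨{W : (𝔛.X 0).Opens // IsAffineOpen W ∧ ∃ h : W ⟶ V.1, T.arrows h}, Subtype.val,
        fun W => W.2.2.choose, fun W => W.2.2.choose_spec, fun x hx => ?_, fun W => W.2.1⟩
      obtain ⟨W', h, hT', hxW⟩ := hT x hx
      obtain ⟨W, hW, hxW, hle⟩ := exists_affine_nhd (𝔛 := 𝔛) hxW
      exact ⟨W, homOfLE hle ≫ h, (Sieve.mem_ofArrows_iff _ _ _).2
        ⟨⟨W, hW, ⟨_, T.downward_closed hT' (homOfLE hle)⟩⟩, 𝟙 _, Subsingleton.elim _ _⟩, hxW⟩

theorem small_coh {M : FSch.ModF 𝔛 hX.1} (hM : FSch.IsCohF 𝔛 hX.1 M) {W : (𝔛.X 0).Opens} (hW : IsAffineOpen W) :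
    TowerStab.Small 0 (SiteCover.P (𝔛.Osh hX.1) W) M :=
  haveI := (ModRDer.insts (𝔛.Osh hX.1)).1
  letI := (ModRDer.insts (𝔛.Osh hX.1)).2.2
  SiteCover.small_of_HU (𝔛.Osh hX.1) W M 0 fun k hk => by
    obtain ⟨n, rfl⟩ : ∃ n, k = n + 1 := ⟨k - 1, by omega⟩
    exact subsingleton_of_forall_eq 0 (Groth.L17.IndRpush.acyclicOn_coh hX hM W hW n)

theorem small_coh_free {M : FSch.ModF 𝔛 hX.1} (hM : FSch.IsCohF 𝔛 hX.1 M) {W : (𝔛.X 0).Opens}
    (hW : IsAffineOpen W) : TowerStab.Small 0 (ModSite.freeOn (𝔛.Osh hX.1) W) M := fun m hm g => by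
  let θ := (DerivedCategory.singleFunctor (ModSite.Mod (𝔛.Osh hX.1)) 0).mapIso (FreeOn.iso (𝔛.Osh hX.1) W)
  exact (cancel_epi θ.inv).1 ((small_coh hX hM hW m hm (θ.inv ≫ g)).trans comp_zero.symm)

/-- On affine opens, morphisms out of `j_! O_W` only see the cohomology sheaf of degree zero. -/
theorem bijective_cls_coh (G : DerivedCategory (FSch.ModF 𝔛 hX.1))
    (hG : ∀ i : ℤ, FSch.IsCohF 𝔛 hX.1 (SiteCmp.HMod G i)) {W : (𝔛.X 0).Opens} (hW : IsAffineOpen W) :
    Function.Bijective (LocalDetect.cls :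
      (SiteCmp.inD (𝔛.Osh hX.1) (ModSite.freeOn (𝔛.Osh hX.1) W) ⟶ G) → _) := by
  obtain ⟨_, _, _⟩ := ModRDer.insts (𝔛.Osh hX.1)
  haveI : HasProductsOfShape ℕ (ModSite.Mod (𝔛.Osh hX.1)) := hasLimitsOfShape_of_equivalence
    (Discrete.equivalence (Equiv.ulift.{u} : ULift.{u} ℕ ≃ ℕ))
  haveI : HasProductsOfShape ℕ (DerivedCategory (ModSite.Mod (𝔛.Osh hX.1))) := DerivedProd.hasProductsOfShape
  haveI : ∀ m : ℤ, (shiftFunctor (DerivedCategory (ModSite.Mod (𝔛.Osh hX.1))) m).Additive := fun _ => inferInstance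
  have hb : TowerStab.LocBounded (affineCover hX) G := fun i => ⟨0, by
    rintro Q ⟨W', hW', rfl⟩ p
    exact small_coh hX (hG p) hW'⟩
  exact Groth.L29.DC.QRlim.bijective_cls (TowerStab.isRlimVia_truncGE hb) _ fun i => small_coh_free hX (hG i) hW

/-- Coherent cohomology implies completeness at sections of the ideal of definition on affine opens. -/
theorem tzAt_coh (F : DerivedCategory (FSch.ModF 𝔛 hX.1))
    (hF : ∀ i : ℤ, FSch.IsCohF 𝔛 hX.1 (SiteCmp.HMod F i)) {V : (𝔛.X 0).Opens} (hV : IsAffineOpen V)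
    {g : O 𝔛 hX.1 V} (hg : g ∈ J 𝔛 hX.1 V) : TzAt (O := 𝔛.Osh hX.1) F V g := by
  intro n
  let A := ModSite.Mod (𝔛.Osh hX.1)
  let P : A := ModSite.freeOn (𝔛.Osh hX.1) V
  let G : DerivedCategory A := F⟦(-n : ℤ)⟧
  have hG : ∀ i : ℤ, FSch.IsCohF 𝔛 hX.1 (SiteCmp.HMod G i) := fun i =>
    isCohF_of_iso hX (hF (-n + i)) (hShiftIso (A := A) F (-n) i (-n + i) rfl).symm
  let M : A := SiteCmp.HMod G 0
  haveI : ∀ m : ℤ, (shiftFunctor (DerivedCategory A) m).Additive := fun _ => inferInstance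
  haveI : (shiftEquiv (DerivedCategory A) n).functor.Additive :=
    inferInstanceAs ((shiftFunctor (DerivedCategory A) n).Additive)
  let ad := (shiftEquiv (DerivedCategory A) n).toAdjunction
  let e₁ : ((SiteCmp.inD (𝔛.Osh hX.1) P)⟦n⟧ ⟶ F) ≃+ (SiteCmp.inD (𝔛.Osh hX.1) P ⟶ G) := ad.homAddEquiv _ _
  let e₂ : (SiteCmp.inD (𝔛.Osh hX.1) P ⟶ G) ≃+ ModSite.sect M V :=
    { (Equiv.ofBijective _ (bijective_cls_coh hX G hG hV)).trans (secM (𝔛.Osh hX.1) V M) with
      map_add' := fun x y => (congrArg _ (Groth.L04.DerComp.AffineAdic.cls_add x y)).trans (secM_add V _ _) }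
  refine (tz_iff_of_equiv (e₁.trans e₂) _ (Groth.L04.RGamma.smulEnd g (ModSite.sect M V)) fun a => ?_).2 ?_
  · show secM (𝔛.Osh hX.1) V M (LocalDetect.cls (ad.homEquiv _ _ (freeMul V g n ≫ a))) =
      g • secM (𝔛.Osh hX.1) V M (LocalDetect.cls (ad.homEquiv _ _ a))
    rw [show ad.homEquiv _ _ (freeMul V g n ≫ a) =
      (DerivedCategory.singleFunctor A 0).map (mulEnd V g) ≫ ad.homEquiv _ _ a from ad.homEquiv_naturality_left _ _,
      LocalDetect.cls_map, secM_mulEnd]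
  · haveI := (O_spec 𝔛 hX hV).1
    haveI := (O_spec 𝔛 hX hV).2.1
    haveI : Module.Finite (O 𝔛 hX.1 V) (ModSite.sect M V) := (SF_spec 𝔛 hX (hG 0) hV).1
    exact tz_of_finite (J 𝔛 hX.1 V) (ModSite.sect M V) hg

/-- Complexes with coherent cohomology are derived complete along the ideal of definition. -/
theorem isDerComp_coh (F : DerivedCategory (FSch.ModF 𝔛 hX.1))
    (hF : ∀ i : ℤ, FSch.IsCohF 𝔛 hX.1 (SiteCmp.HMod F i)) :
    DerComp.IsDerComp (𝔛.Osh hX.1) (idealJ hX.1) F := by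
  refine (isDerComp_iff _ F).2 fun V g hg => ?_
  refine tzAt_of_gens F {W : Over V | IsAffineOpen W.left} (fun X => ?_) fun W =>
    tzAt_coh hX F hF W.2 ((idealJ hX.1).map_mem W.1.hom hg)
  refine ⟨{Z : (𝔛.X 0).Opens // IsAffineOpen Z ∧ Z ≤ X.left}, fun Z => Over.mk (homOfLE Z.2.2 ≫ X.hom),
    fun Z => Over.homMk (homOfLE Z.2.2) (Subsingleton.elim _ _), ?_, fun Z => Z.2.1⟩
  rw [GrothendieckTopology.mem_over_iff]
  intro x hx
  obtain ⟨Z, hZ, hxZ, hle⟩ := exists_affine_nhd (𝔛 := 𝔛) hx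
  refine ⟨Z, homOfLE hle, ?_, hxZ⟩
  rw [Sieve.overEquiv_iff]
  exact ⟨_, 𝟙 _, _, Presieve.ofArrows.mk (⟨Z, hZ, hle⟩ : {Z : (𝔛.X 0).Opens // IsAffineOpen Z ∧ Z ≤ X.left}),
    Over.OverMorphism.ext (Subsingleton.elim _ _)⟩

end Groth.L04.FTorsD
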