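import Groth.Agent.L17.FSheaf.CohCat
import Mathlib.Algebra.Homology.QuasiIso

/-!
# Sections of cycles and homology of complexes of sheaves of modules on a space
-/

set_option autoImplicit false
set_option backward.isDefEq.respectTransparency false
set_option backward.isDefEq.respectTransparency.types false

universe u

open CategoryTheory CategoryTheory.Limits TopologicalSpace Opposite

noncomputable section

namespace Groth.L04.FTorsD

open Groth.L17.FSheaf

variable {Y : TopCat.{u}} {R : Sheaf (Opens.grothendieckTopology Y) RingCat.{u}}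

/-- A morphism on sections. -/
abbrev ap {A B : SheafOfModules.{u} R} (f : A ⟶ B) (U : Opens Y) : A.val.obj (op U) →ₗ[R.obj.obj (op U)] B.val.obj (op U) :=
  (f.val.app (op U)).hom

theorem ap_comp {A B C : SheafOfModules.{u} R} (f : A ⟶ B) (g : B ⟶ C) (U : Opens Y) (z : A.val.obj (op U)) :
    ap (f ≫ g) U z = ap g U (ap f U z) := rfl

theorem ap_congr {A B : SheafOfModules.{u} R} {f g : A ⟶ B} (h : f = g) (U : Opens Y) (z : A.val.obj (op U)) :
    ap f U z = ap g U z := by rw [h]

theorem ap_res {A B : SheafOfModules.{u} R} (f : A ⟶ B) {U V : Opens Y} (e : V ≤ U) (z : A.val.obj (op U)) :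
    ap f V (res A e z) = res B e (ap f U z) :=
  PresheafOfModules.naturality_apply f.val (homOfLE e).op z

theorem ap_injective {A B : SheafOfModules.{u} R} (f : A ⟶ B) [Mono f] (U : Opens Y) :
    Function.Injective (ap f U) := by
  let G : SheafOfModules.{u} R ⥤ _ := SheafOfModules.evaluation.{u} R (op U)
  haveI : Mono (G.map f) := inferInstance
  exact (ModuleCat.mono_iff_injective (G.map f)).1 inferInstance

theorem isZero_of_sections {A : SheafOfModules.{u} R} (h : ∀ (U : Opens Y) (s : A.val.obj (op U)), s = 0) :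
    IsZero A := by
  rw [IsZero.iff_id_eq_zero]
  exact SheafOfModules.hom_ext (PresheafOfModules.hom_ext fun W => ModuleCat.hom_ext (LinearMap.ext fun s =>
    (h W.unop s).trans (h W.unop _).symm))

variable (K : CochainComplex (SheafOfModules.{u} R) ℤ) (n : ℤ)

/-- A cocycle comes from a section of the cycles. -/
theorem exists_cycles {U : Opens Y} (z : (K.X n).val.obj (op U)) (hz : ap (K.d n (n + 1)) U z = 0) :
    ∃ c, ap (K.iCycles n) U c = z := by
  obtain ⟨k, hk⟩ := (exists_kernel_sect (K.d n (n + 1)) (op U)).1 z hz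
  refine ⟨ap (K.liftCycles (kernel.ι (K.d n (n + 1))) (n + 1) (by simp) (kernel.condition _)) U k, ?_⟩
  rw [← ap_comp, HomologicalComplex.liftCycles_i]
  exact hk

theorem d_iCycles {U : Opens Y} (c : (K.cycles n).val.obj (op U)) :
    ap (K.d n (n + 1)) U (ap (K.iCycles n) U c) = 0 :=
  hom_comp_zero (K.iCycles_d n (n + 1)) _ c

/-- Homology classes lift locally to cycles. -/
theorem exists_class {U : Opens Y} (h : (K.homology n).val.obj (op U)) (x : Y) (hx : x ∈ U) :
    ∃ (V : Opens Y) (e : V ≤ U), x ∈ V ∧ ∃ c, ap (K.homologyπ n) V c = res _ e h :=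
  exists_lift (K.homologyπ n) h x hx

/-- Cycles of trivial class are locally boundaries. -/
theorem exists_boundary {U : Opens Y} (c : (K.cycles n).val.obj (op U)) (hc : ap (K.homologyπ n) U c = 0)
    (x : Y) (hx : x ∈ U) : ∃ (V : Opens Y) (e : V ≤ U), x ∈ V ∧ ∃ y : (K.X (n - 1)).val.obj (op V),
      ap (K.d (n - 1) n) V y = res _ e (ap (K.iCycles n) U c) := by
  let ψ := (K.homologyIsCokernel (n - 1) n (by simp)).desc
    (CokernelCofork.ofπ (cokernel.π (K.toCycles (n - 1) n)) (cokernel.condition _))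
  have hψ : K.homologyπ n ≫ ψ = cokernel.π (K.toCycles (n - 1) n) :=
    (K.homologyIsCokernel (n - 1) n (by simp)).fac _ WalkingParallelPair.one
  have h0 : ap (cokernel.π (K.toCycles (n - 1) n)) U c = 0 :=
    ((ap_congr hψ U c).symm.trans (ap_comp _ _ U c)).trans ((congrArg (ap ψ U) hc).trans (map_zero _))
  obtain ⟨V, e, hxV, y, hy⟩ := exists_preimage_of_coker (K.toCycles (n - 1) n) c h0 x hx
  refine ⟨V, e, hxV, y, ?_⟩
  rw [← ap_res, ← hy]
  exact (ap_congr (K.toCycles_i (n - 1) n) V y).symm.trans (ap_comp _ _ V y)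

theorem homologyπ_boundary {U : Opens Y} (y : (K.X (n - 1)).val.obj (op U)) (c : (K.cycles n).val.obj (op U))
    (h : ap (K.iCycles n) U c = ap (K.d (n - 1) n) U y) : ap (K.homologyπ n) U c = 0 := by
  have hc : c = ap (K.toCycles (n - 1) n) U y := ap_injective (K.iCycles n) U
    (h.trans ((ap_congr (K.toCycles_i (n - 1) n) U y).symm.trans (ap_comp _ _ U y)))
  rw [hc]
  exact hom_comp_zero (K.toCycles_comp_homologyπ (n - 1) n) _ y

variable {K} {L : CochainComplex (SheafOfModules.{u} R) ℤ} (φ : K ⟶ L)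

theorem map_cycles {U : Opens Y} (c : (K.cycles n).val.obj (op U)) :
    ap (L.iCycles n) U (ap (HomologicalComplex.cyclesMap φ n) U c) = ap (φ.f n) U (ap (K.iCycles n) U c) := by
  rw [← ap_comp, ← ap_comp]
  exact ap_congr (HomologicalComplex.cyclesMap_i φ n) U c

/-- An elementwise criterion for quasi-isomorphisms of complexes of sheaves of modules. -/
theorem quasiIsoAt_of_local
    (hsurj : ∀ (U : Opens Y) (z : (L.X n).val.obj (op U)), ap (L.d n (n + 1)) U z = 0 → ∀ x ∈ U,
      ∃ (V : Opens Y) (e : V ≤ U), x ∈ V ∧ ∃ (w : (K.X n).val.obj (op V)) (y : (L.X (n - 1)).val.obj (op V)),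
        ap (K.d n (n + 1)) V w = 0 ∧ res _ e z = ap (φ.f n) V w + ap (L.d (n - 1) n) V y)
    (hinj : ∀ (U : Opens Y) (w : (K.X n).val.obj (op U)) (y : (L.X (n - 1)).val.obj (op U)),
      ap (K.d n (n + 1)) U w = 0 → ap (φ.f n) U w = ap (L.d (n - 1) n) U y → ∀ x ∈ U,
      ∃ (V : Opens Y) (e : V ≤ U), x ∈ V ∧ ∃ v : (K.X (n - 1)).val.obj (op V),
        ap (K.d (n - 1) n) V v = res _ e w) :
    QuasiIsoAt φ n := by
  rw [quasiIsoAt_iff_isIso_homologyMap]
  let H := HomologicalComplex.homologyMap φ n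
  have hmono : Mono H := by
    refine Preadditive.mono_of_isZero_kernel H (isZero_of_sections fun U k => ?_)
    refine ap_injective (kernel.ι H) U ((eq_of_locally _ _ _ fun x hx => ?_).trans (map_zero _).symm)
    obtain ⟨V, e, hxV, c, hc⟩ := exists_class K n (ap (kernel.ι H) U k) x hx
    have h0 : ap (L.homologyπ n) V (ap (HomologicalComplex.cyclesMap φ n) V c) = 0 := by
      rw [← ap_comp, ← ap_congr (HomologicalComplex.homologyπ_naturality φ n), ap_comp, hc, ap_res]
      exact (congrArg (res _ e) (hom_comp_zero (kernel.condition H) _ k)).trans (res_zero _ _)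
    obtain ⟨V', e', hxV', y, hy⟩ := exists_boundary L n _ h0 x hxV
    rw [← ap_res, ← ap_res, map_cycles] at hy
    obtain ⟨V'', e'', hxV'', v, hv⟩ := hinj V' (ap (K.iCycles n) V' (res _ e' c)) y (d_iCycles K n _) hy.symm x hxV'
    refine ⟨V'', e''.trans (e'.trans e), hxV'', ?_⟩
    rw [res_zero, ← res_res _ e (e''.trans e'), ← hc, ← ap_res]
    refine homologyπ_boundary K n v _ ?_
    rw [hv, ← ap_res, res_res]
  have hepi : Epi H := by
    refine Preadditive.epi_of_isZero_cokernel H (isZero_of_sections fun U h => eq_of_locally _ _ _ fun x hx => ?_)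
    obtain ⟨V, e, hxV, a, ha⟩ := exists_lift (cokernel.π H) h x hx
    obtain ⟨V', e', hxV', c, hc⟩ := exists_class L n a x hxV
    obtain ⟨V'', e'', hxV'', w, y, hw, hz⟩ := hsurj V' (ap (L.iCycles n) V' c) (d_iCycles L n c) x hxV'
    obtain ⟨b, hb⟩ := exists_cycles K n w hw
    refine ⟨V'', e''.trans (e'.trans e), hxV'', ?_⟩
    have h0 : ap (L.homologyπ n) V'' (res _ e'' c - ap (HomologicalComplex.cyclesMap φ n) V'' b) = 0 := by
      refine homologyπ_boundary L n y _ ?_
      rw [map_sub, map_cycles, hb, ap_res, hz]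
      abel
    rw [map_sub, sub_eq_zero, ← ap_comp, ← ap_congr (HomologicalComplex.homologyπ_naturality φ n), ap_comp,
      ap_res, hc, res_res] at h0
    rw [res_zero, ← res_res _ e (e''.trans e'), ← ha, ← ap_res, h0]
    exact hom_comp_zero (cokernel.condition H) _ _
  exact isIso_of_mono_of_epi H

end Groth.L04.FTorsD
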