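import Groth.Agent.L04.FTorsD.Divide
import Groth.Agent.L04.FTorsD.Sect

/-!
# Complexes of injective modules with torsion cohomology on formal schemes
-/

set_option autoImplicit false
set_option linter.style.haveILetI false
set_option linter.unusedSectionVars false
set_option backward.isDefEq.respectTransparency false
set_option backward.isDefEq.respectTransparency.types false

universe u

open CategoryTheory CategoryTheory.Limits AlgebraicGeometry TopologicalSpace Opposite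

noncomputable section

namespace Groth.L04.FTorsD

open Groth.L17.FSheaf Groth.L09.IndCoh Groth.L28.QCT

variable {𝔛 : FSch.Sys.{u}} (hX : 𝔛.IsLocNoethFormal)

section Sections

variable {M : FSch.ModF 𝔛 hX.1} {U V : (𝔛.X 0).Opens} {r : ℕ} {t : Fin r → O 𝔛 hX.1 U}
  (hU : IsAffineOpen U) (hV : IsAffineOpen V) (e : V ≤ U) (ht : Ideal.span (Set.range t) = J 𝔛 hX.1 U)

theorem exists_affine_nhd {W : (𝔛.X 0).Opens} {x : 𝔛.X 0} (hx : x ∈ W) :
    ∃ V : (𝔛.X 0).Opens, IsAffineOpen V ∧ x ∈ V ∧ V ≤ W := by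
  obtain ⟨V, hV, hxV, hle⟩ := Opens.isBasis_iff_nbhd.1 (𝔛.X 0).isBasis_affineOpens hx
  exact ⟨V, hV, hxV, hle⟩

include hU hV ht in
theorem span_res : Ideal.span (Set.range fun i => resO 𝔛 hX.1 e (t i)) = J 𝔛 hX.1 V := by
  rw [J_eq_map 𝔛 hX hU hV e, ← ht, Ideal.map_span, ← Set.range_comp]
  rfl

include hU hV ht in
theorem tors_of_kPow {a : ℕ} {s : SF 𝔛 hX.1 M V} (h : KPow hX t e r a s) : Tors M s := by
  haveI := (O_spec 𝔛 hX hV).1
  let A : Ideal (O 𝔛 hX.1 V) := LinearMap.ker (LinearMap.toSpanSingleton (O 𝔛 hX.1 V) _ s)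
  have hle : J 𝔛 hX.1 V ≤ A.radical := by
    rw [← span_res hX hU hV e ht, Ideal.span_le]
    rintro _ ⟨i, rfl⟩
    exact ⟨a, LinearMap.mem_ker.2 (h i i.2)⟩
  obtain ⟨N, hN⟩ := Ideal.exists_pow_le_of_le_radical_of_fg hle (IsNoetherian.noetherian _)
  exact _root_.FTors.IsTorsSect.of_killedBy (killed_of_affine hX hV (k := N) fun b hb =>
    LinearMap.mem_ker.1 (hN (Ideal.pow_le_pow_right N.le_succ hb)))

include hU hV ht in
theorem exists_kPow {s : SF 𝔛 hX.1 M V} (h : Tors M s) : ∃ a, KPow hX t e r a s := by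
  obtain ⟨k, hk⟩ := h.exists_killed hV.isCompact
  refine ⟨k + 1, fun i _ => smul_eq_zero_of_mem hX hV hk (Ideal.pow_mem_pow ?_ _)⟩
  rw [← span_res hX hU hV e ht]
  exact Ideal.subset_span ⟨i, rfl⟩

end Sections

variable (I : CochainComplex (FSch.ModF 𝔛 hX.1) ℤ) (hinj : ∀ n, Injective (I.X n))
  (htor : ∀ n, _root_.FTors.IsTorsF 𝔛 hX.1 (I.homology n))
  {U : (𝔛.X 0).Opens} (hU : IsAffineOpen U) {r : ℕ} (t : Fin r → O 𝔛 hX.1 U)
  (ht : Ideal.span (Set.range t) = J 𝔛 hX.1 U)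

theorem dd {p n q : ℤ} {V : (𝔛.X 0).Opens} (y : SF 𝔛 hX.1 (I.X p) V) :
    apF (I.d n q) V (apF (I.d p n) V y) = 0 :=
  hom_comp_zero (I.d_comp_d p n q) _ y

include htor hU ht in
/-- Powers of the generators kill cohomology classes locally. -/
theorem kills (p n q : ℤ) (hp : p + 1 = n) (hq : n + 1 = q) {V : (𝔛.X 0).Opens} (e : V ≤ U) (i : Fin r)
    (z : SF 𝔛 hX.1 (I.X n) V) (hz : apF (I.d n q) V z = 0) (x : 𝔛.X 0) (hx : x ∈ V) :
    ∃ (V' : (𝔛.X 0).Opens) (e' : V' ≤ V), IsAffineOpen V' ∧ x ∈ V' ∧ ∃ (k : ℕ) (y : SF 𝔛 hX.1 (I.X p) V'),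
      apF (I.d p n) V' y = resO 𝔛 hX.1 (e'.trans e) (t i) ^ k • rsF (I.X n) e' z := by
  obtain rfl : p = n - 1 := by omega
  subst hq
  obtain ⟨c, hc⟩ := exists_cycles I n z hz
  obtain ⟨W, hW, hxW, hle⟩ := exists_affine_nhd hx
  obtain ⟨k, hk⟩ := exists_kPow hX hU hW (hle.trans e) ht
    (htor n W (apF (I.homologyπ n) W (rsF (I.cycles n) hle c)))
  have h0 : ap (I.homologyπ n) W (resO 𝔛 hX.1 (hle.trans e) (t i) ^ k • rsF (I.cycles n) hle c) = 0 :=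
    ((apF (I.homologyπ n) W).map_smul _ _).trans (hk i i.2)
  obtain ⟨W', hle', hxW', y, hy⟩ := exists_boundary I n _ h0 x hxW
  obtain ⟨V', hV', hxV', hle''⟩ := exists_affine_nhd hxW'
  refine ⟨V', hle''.trans (hle'.trans hle), hV', hxV', k, rsF (I.X (n - 1)) hle'' y, ?_⟩
  refine (apF_rsF _ hle'' y).trans ((congrArg (rsF (I.X n) hle'') hy).trans ?_)
  show rsF (I.X n) hle'' (rsF (I.X n) hle' (apF (I.iCycles n) W _)) = _
  rw [rsF_rsF, map_smul, rsF_smul hX, map_pow, resO_resO]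
  refine congrArg (_ • ·) ?_
  rw [apF_rsF, rsF_rsF]
  exact congrArg (rsF _ _) hc

theorem mono_pow {V : (𝔛.X 0).Opens} {N : FSch.ModF 𝔛 hX.1} (b : O 𝔛 hX.1 V) {m n : ℕ} (h : m ≤ n)
    {s : SF 𝔛 hX.1 N V} (hs : b ^ m • s = 0) : b ^ n • s = 0 := by
  obtain ⟨c, rfl⟩ := Nat.exists_eq_add_of_le h
  rw [add_comm, pow_add, mul_smul, hs, smul_zero]

include hinj htor hU ht in
/-- Boundaries killed by powers of the first `j` generators bound such sections locally. -/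
theorem stepB : ∀ (j : ℕ), j ≤ r → ∀ (p n : ℤ), p + 1 = n → ∀ {V : (𝔛.X 0).Opens} (e : V ≤ U), IsAffineOpen V →
    ∀ (a : ℕ) (s : SF 𝔛 hX.1 (I.X n) V), KPow hX t e j a s → ∀ y : SF 𝔛 hX.1 (I.X p) V, apF (I.d p n) V y = s →
    ∀ x ∈ V, ∃ (V' : (𝔛.X 0).Opens) (e' : V' ≤ V), IsAffineOpen V' ∧ x ∈ V' ∧
      ∃ (b : ℕ) (y' : SF 𝔛 hX.1 (I.X p) V'), KPow hX t (e'.trans e) j b y' ∧
        apF (I.d p n) V' y' = rsF (I.X n) e' s := by
  intro j
  induction j with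
  | zero =>
    intro _ p n hpn V e hV a s _ y hy x hx
    exact ⟨V, le_rfl, hV, hx, a, rsF (I.X p) le_rfl y, kPow_zero hX a _,
      (apF_rsF _ le_rfl y).trans (congrArg (rsF _ le_rfl) hy)⟩
  | succ j ih =>
    intro hj p n hpn V e hV a s hs y hy x hx
    obtain ⟨V₁, e₁, hV₁, hx₁, b, y₁, hy₁, hd₁⟩ := ih (by omega) p n hpn e hV a s
      (fun i hi => hs i (Nat.lt_succ_of_lt hi)) y hy x hx
    have hcyc : apF (I.d p n) V₁ (resO 𝔛 hX.1 (e₁.trans e) (t ⟨j, hj⟩) ^ a • y₁) = 0 := by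
      rw [map_smul, hd₁]
      exact hs.res hX e₁ ⟨j, hj⟩ (Nat.lt_succ_self j)
    obtain ⟨V₂, e₂, hV₂, hx₂, k, w₀, hw₀⟩ := kills hX I htor hU t ht (p - 1) p n (by omega) hpn
      (e₁.trans e) ⟨j, hj⟩ _ hcyc x hx₁
    obtain ⟨V₃, e₃, hV₃, hx₃, c, w, hw, hdw⟩ := ih (by omega) (p - 1) p (by omega) (e₂.trans (e₁.trans e)) hV₂ b
      _ (((hy₁.smul hX _).res hX e₂).smul hX _) w₀ hw₀ x hx₂
    haveI := hinj (p - 1)
    obtain ⟨m, z, hz, hzeq⟩ := divide hX (M := I.X (p - 1)) hV₃ hj hw (k + a)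
    refine ⟨V₃, e₃.trans (e₂.trans e₁), hV₃, hx₃, max (max b c) (k + a + m),
      rsF (I.X p) (e₃.trans e₂) y₁ - apF (I.d (p - 1) p) V₃ z,
      KPow.succ hX ((((hy₁.res hX (e₃.trans e₂)).mono hX ((le_max_left b c).trans (le_max_left _ _))).sub hX
        ((hz.ap hX _).mono hX ((le_max_right b c).trans (le_max_left _ _))))) hj ?_, ?_⟩
    · refine mono_pow hX _ (le_max_right (max b c) (k + a + m)) ?_
      rw [smul_sub, sub_eq_zero, ← map_smul, hzeq, map_smul, hdw, rsF_smul hX, rsF_smul hX, rsF_smul hX]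
      simp only [map_pow, resO_resO, rsF_rsF, ← mul_smul, ← pow_add]
      refine congrArg₂ (· • ·) (congrArg (_ ^ ·) (by omega)) rfl
    · rw [map_sub, dd hX, sub_zero, apF_rsF, hd₁, rsF_rsF]

include hinj htor hU ht in
/-- Classes are locally represented by cocycles killed by powers of the first `j` generators. -/
theorem stepA : ∀ (j : ℕ), j ≤ r → ∀ (p n q : ℤ), p + 1 = n → n + 1 = q → ∀ {V : (𝔛.X 0).Opens} (e : V ≤ U),
    IsAffineOpen V → ∀ (z : SF 𝔛 hX.1 (I.X n) V), apF (I.d n q) V z = 0 →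
    ∀ x ∈ V, ∃ (V' : (𝔛.X 0).Opens) (e' : V' ≤ V), IsAffineOpen V' ∧ x ∈ V' ∧
      ∃ (a : ℕ) (s : SF 𝔛 hX.1 (I.X n) V') (y : SF 𝔛 hX.1 (I.X p) V'), KPow hX t (e'.trans e) j a s ∧
        rsF (I.X n) e' z = s + apF (I.d p n) V' y := by
  intro j
  induction j with
  | zero =>
    intro _ p n q _ _ V e hV z _ x hx
    exact ⟨V, le_rfl, hV, hx, 0, rsF (I.X n) le_rfl z, 0, kPow_zero hX 0 _, by rw [map_zero, add_zero]⟩
  | succ j ih =>
    intro hj p n q hpn hnq V e hV z hz x hx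
    obtain ⟨V₁, e₁, hV₁, hx₁, a, s, y, hs, hzs⟩ := ih (by omega) p n q hpn hnq e hV z hz x hx
    have hcyc : apF (I.d n q) V₁ s = 0 := by
      rw [eq_sub_of_add_eq hzs.symm, map_sub, dd hX, sub_zero, apF_rsF, hz]
      exact res_zero _ _
    obtain ⟨V₂, e₂, hV₂, hx₂, k, y₀, hy₀⟩ := kills hX I htor hU t ht p n q hpn hnq (e₁.trans e) ⟨j, hj⟩ s hcyc x hx₁
    obtain ⟨V₃, e₃, hV₃, hx₃, b, w, hw, hdw⟩ := stepB hX I hinj htor hU t ht j (by omega) p n hpn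
      (e₂.trans (e₁.trans e)) hV₂ a _ ((hs.res hX e₂).smul hX _) y₀ hy₀ x hx₂
    haveI := hinj p
    obtain ⟨m, z', hz', hzeq⟩ := divide hX (M := I.X p) hV₃ hj hw k
    refine ⟨V₃, e₃.trans (e₂.trans e₁), hV₃, hx₃, max (max a b) (k + m),
      rsF (I.X n) (e₃.trans e₂) s - apF (I.d p n) V₃ z', rsF (I.X p) (e₃.trans e₂) y + z',
      KPow.succ hX ((((hs.res hX (e₃.trans e₂)).mono hX ((le_max_left a b).trans (le_max_left _ _))).sub hX
        ((hz'.ap hX _).mono hX ((le_max_right a b).trans (le_max_left _ _))))) hj ?_, ?_⟩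
    · refine mono_pow hX _ (le_max_right (max a b) (k + m)) ?_
      rw [smul_sub, sub_eq_zero, ← map_smul, hzeq, map_smul, hdw, rsF_smul hX]
      simp only [map_pow, resO_resO, rsF_rsF, ← mul_smul, ← pow_add]
      refine congrArg₂ (· • ·) (congrArg (_ ^ ·) (by omega)) rfl
    · rw [← rsF_rsF (I.X n) e₁ (e₃.trans e₂) z, hzs, map_add, apF_rsF]
      refine (res_add _ _ _ _).trans ?_
      abel

end Groth.L04.FTorsD
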