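import Groth.Agent.L10.KInjDerived
import Mathlib.Algebra.Homology.DerivedCategory.HomologySequence

/-!
# Idempotent subfunctors of the identity and K-injective complexes
-/

set_option autoImplicit false
set_option backward.defeqAttrib.useBackward true
set_option backward.isDefEq.respectTransparency false
set_option backward.isDefEq.respectTransparency.types false

universe w v u

open CategoryTheory CategoryTheory.Limits DerivedCategory

noncomputable section

namespace Groth.L04.FTorsD.Coreflect

variable {C : Type u} [Category.{v} C] [Abelian C] [IsGrothendieckAbelian.{v} C] [HasDerivedCategory.{w} C]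

/-- A complex as an object of the derived category. -/
abbrev qq : CochainComplex C ℤ ⥤ DerivedCategory C :=
  HomotopyCategory.quotient C (ComplexShape.up ℤ) ⋙ Qh

omit [IsGrothendieckAbelian.{v} C] in
theorem isIso_qq_map {X Y : CochainComplex C ℤ} (f : X ⟶ Y) [QuasiIso f] : IsIso (qq.map f) :=
  Localization.inverts Qh (HomotopyCategory.quasiIso C (ComplexShape.up ℤ)) _
    ((HomotopyCategory.quotient_map_mem_quasiIso_iff f).2 ((HomologicalComplex.mem_quasiIso_iff f).2 ‹_›))

omit [IsGrothendieckAbelian.{v} C] in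
theorem quasiIso_of_isIso_qq_map {X Y : CochainComplex C ℤ} (f : X ⟶ Y) [IsIso (qq.map f)] : QuasiIso f := by
  rw [← isIso_Q_map_iff_quasiIso]
  exact (NatIso.isIso_map_iff (quotientCompQhIso C) f).1 ‹_›

omit [IsGrothendieckAbelian.{v} C] in
/-- The cohomology of the object of a complex. -/
def hdIso (X : CochainComplex C ℤ) (n : ℤ) : (homologyFunctor C n).obj (qq.obj X) ≅ X.homology n :=
  (homologyFunctor C n).mapIso ((quotientCompQhIso C).app X) ≪≫ (homologyFunctorFactors C n).app X

omit [IsGrothendieckAbelian.{v} C] in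
theorem exists_qq_map {K I : CochainComplex C ℤ} [I.IsKInjective] (ξ : qq.obj K ⟶ qq.obj I) :
    ∃ φ : K ⟶ I, qq.map φ = ξ := by
  obtain ⟨g, hg⟩ := (CochainComplex.IsKInjective.Qh_map_bijective _ I).surjective ξ
  obtain ⟨φ, rfl⟩ := (HomotopyCategory.quotient C (ComplexShape.up ℤ)).map_surjective g
  exact ⟨φ, hg⟩

omit [IsGrothendieckAbelian.{v} C] in
theorem quotient_eq_of_qq_eq {K I : CochainComplex C ℤ} [I.IsKInjective] {φ φ' : K ⟶ I}
    (h : qq.map φ = qq.map φ') : (HomotopyCategory.quotient C (ComplexShape.up ℤ)).map φ =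
      (HomotopyCategory.quotient C (ComplexShape.up ℤ)).map φ' :=
  (CochainComplex.IsKInjective.Qh_map_bijective _ I).injective h

theorem exists_rep (K : DerivedCategory C) : ∃ R : CochainComplex C ℤ,
    R.IsKInjective ∧ Nonempty (qq.obj R ≅ K) := by
  let M := Q.objPreimage K
  refine ⟨Groth.L10.KInjRes.res M, inferInstance, ⟨?_⟩⟩
  exact (quotientCompQhIso C).app _ ≪≫ (asIso (Q.map (Groth.L10.KInjRes.resι M))).symm ≪≫ Q.objObjPreimageIso K

variable (G : C ⥤ C) [G.Additive]

omit [IsGrothendieckAbelian.{v} C] in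
theorem qq_mapHC_eq {K L : CochainComplex C ℤ} {φ φ' : K ⟶ L}
    (h : (HomotopyCategory.quotient C (ComplexShape.up ℤ)).map φ =
      (HomotopyCategory.quotient C (ComplexShape.up ℤ)).map φ') :
    (qq (C := C)).map ((G.mapHomologicalComplex _).map φ) = qq.map ((G.mapHomologicalComplex _).map φ') :=
  congrArg Qh.map (HomotopyCategory.eq_of_homotopy _ _ (G.mapHomotopy (HomotopyCategory.homotopyOfEq _ _ h)))

variable (η : G.mapHomologicalComplex (ComplexShape.up ℤ) ⟶ 𝟭 (CochainComplex C ℤ))
  (hidem : ∀ X, IsIso (η.app ((G.mapHomologicalComplex _).obj X)))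
  (hidem' : ∀ X, IsIso ((G.mapHomologicalComplex _).map (η.app X)))
  (P : C → Prop) (hP : ∀ {A B : C}, (A ≅ B) → P A → P B)
  (hPG : ∀ X (n : ℤ), P (((G.mapHomologicalComplex (ComplexShape.up ℤ)).obj X).homology n))
  (hqis : ∀ (I : CochainComplex C ℤ) [I.IsKInjective], (∀ n, P (I.homology n)) → QuasiIso (η.app I))

include hidem hidem' hP hPG hqis in
/-- Maps from torsion subcomplexes into the torsion subcomplex of a K-injective complex. -/
theorem bijective_comp (R S : CochainComplex C ℤ) [S.IsKInjective] :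
    Function.Bijective (fun φ : qq.obj ((G.mapHomologicalComplex _).obj R) ⟶
      qq.obj ((G.mapHomologicalComplex _).obj S) => φ ≫ qq.map (η.app S)) := by
  let GC := G.mapHomologicalComplex (ComplexShape.up ℤ)
  haveI := hidem R
  haveI := hidem S
  haveI := hidem' S
  refine ⟨fun φ φ' e => sub_eq_zero.1 ?_, fun g => ?_⟩
  · let ψ := φ - φ'
    have hψ : ψ ≫ qq.map (η.app S) = 0 := by
      simp only [ψ, Preadditive.sub_comp]
      exact sub_eq_zero.2 e
    let f := Groth.L10.KInjRes.resι (GC.obj S)
    let J := Groth.L10.KInjRes.res (GC.obj S)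
    haveI := hqis J fun n => hP (isoOfQuasiIsoAt f n) (hPG S n)
    haveI := isIso_qq_map f
    obtain ⟨h, hh⟩ := exists_qq_map (ψ ≫ qq.map f)
    obtain ⟨k, hk⟩ := exists_qq_map (I := S) (inv (qq.map f) ≫ qq.map (η.app S))
    have hfk : qq.map (f ≫ k) = qq.map (η.app S) := by rw [Functor.map_comp, hk, IsIso.hom_inv_id_assoc]
    have hhk : qq.map (h ≫ k) = qq.map (0 : GC.obj R ⟶ S) := by
      rw [Functor.map_comp, hh, hk, Category.assoc, IsIso.hom_inv_id_assoc, hψ, Functor.map_zero]
    haveI : QuasiIso (GC.map f) := by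
      haveI : QuasiIso (GC.map f ≫ η.app J) := by
        let a : GC.obj (GC.obj S) ⟶ GC.obj S := η.app (GC.obj S)
        haveI : IsIso a := hidem S
        haveI : QuasiIso a := inferInstance
        have h0 : GC.map f ≫ η.app J = a ≫ f := η.naturality f
        rw [h0]
        infer_instance
      exact quasiIso_of_comp_right (GC.map f) (η.app J)
    haveI := isIso_qq_map (GC.map f)
    haveI : IsIso (qq.map (GC.map k)) := by
      have h1 := qq_mapHC_eq G (quotient_eq_of_qq_eq hfk)
      have : IsIso (qq.map (GC.map f) ≫ qq.map (GC.map k)) := by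
        rw [← Functor.map_comp, ← Functor.map_comp, h1]
        infer_instance
      exact IsIso.of_isIso_comp_left (qq.map (GC.map f)) _
    have h2 := qq_mapHC_eq G (quotient_eq_of_qq_eq hhk)
    rw [Functor.map_comp, Functor.map_zero, Functor.map_comp, Functor.map_zero, ← zero_comp (f := qq.map (GC.map k)),
      cancel_mono] at h2
    have h3 : qq.map h = 0 := by
      have h4 : GC.map h ≫ η.app J = η.app (GC.obj R) ≫ h := η.naturality h
      have h5 : qq.map (η.app (GC.obj R)) ≫ qq.map h = 0 := by
        rw [← Functor.map_comp, ← h4, Functor.map_comp, h2, zero_comp]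
      rwa [← cancel_epi (qq.map (η.app (GC.obj R))), comp_zero]
    rw [hh] at h3
    rwa [← cancel_mono (qq.map f), zero_comp]
  · obtain ⟨h, rfl⟩ := exists_qq_map (I := S) g
    refine ⟨qq.map (inv (η.app (GC.obj R)) ≫ GC.map h), ?_⟩
    show qq.map (inv (η.app (GC.obj R)) ≫ GC.map h) ≫ qq.map (η.app S) = qq.map h
    rw [← Functor.map_comp, Category.assoc]
    exact congrArg qq.map ((congrArg (inv (η.app (GC.obj R)) ≫ ·) (η.naturality h)).trans
      (IsIso.inv_hom_id_assoc _ h))

end Groth.L04.FTorsD.Coreflect
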