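import Groth.Agent.L04.FTorsD.Core
import Groth.Agent.L28.FTors.Gamma
import Groth.Agent.L10.KInjDerived

/-!
# The torsion subcomplex of a K-injective complex with torsion cohomology
-/

set_option autoImplicit false
set_option linter.style.haveILetI false
set_option linter.unusedSectionVars false
set_option backward.isDefEq.respectTransparency false
set_option backward.isDefEq.respectTransparency.types false

universe u

open CategoryTheory CategoryTheory.Limits AlgebraicGeometry TopologicalSpace Opposite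

noncomputable section

namespace Groth.L04.FTorsD

open Groth.L17.FSheaf Groth.L09.IndCoh Groth.L28.QCT

variable {𝔛 : FSch.Sys.{u}} (hX : 𝔛.IsLocNoethFormal)

theorem quasiIso_app_of_resolution {C : Type*} [Category C] [Abelian C] (F : C ⥤ C) [F.Additive]
    (η : F.mapHomologicalComplex (ComplexShape.up ℤ) ⟶ 𝟭 (CochainComplex C ℤ))
    {I R : CochainComplex C ℤ} [I.IsKInjective] [R.IsKInjective] (f : I ⟶ R) [QuasiIso f] (h : QuasiIso (η.app R)) :
    QuasiIso (η.app I) := by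
  obtain ⟨e, he⟩ := (CochainComplex.IsKInjective.quasiIso_iff f).1 inferInstance
  haveI : QuasiIso ((F.mapHomologicalComplex (ComplexShape.up ℤ)).map f) := (HomologicalComplex.mem_quasiIso_iff _).1
    (homotopyEquivalences_le_quasiIso _ _ _ ⟨F.mapHomotopyEquiv e, congrArg (F.mapHomologicalComplex _).map he⟩)
  haveI : QuasiIso (η.app I ≫ f) := by
    have := η.naturality f
    exact this ▸ (inferInstanceAs (QuasiIso ((F.mapHomologicalComplex (ComplexShape.up ℤ)).map f ≫ η.app R)))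
  exact quasiIso_of_comp_right (η.app I) f

theorem quasiIso_app_of_kInjective {C : Type (u + 1)} [Category.{u} C] [Abelian C] [IsGrothendieckAbelian.{u} C] (F : C ⥤ C)
    [F.Additive] (η : F.mapHomologicalComplex (ComplexShape.up ℤ) ⟶ 𝟭 (CochainComplex C ℤ)) (P : C → Prop)
    (hP : ∀ {A B : C}, (A ≅ B) → P A → P B)
    (h : ∀ R : CochainComplex C ℤ, (∀ n, Injective (R.X n)) → (∀ n, P (R.homology n)) → QuasiIso (η.app R))
    (I : CochainComplex C ℤ) [I.IsKInjective] (hI : ∀ n, P (I.homology n)) : QuasiIso (η.app I) :=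
  quasiIso_app_of_resolution F η (Groth.L10.KInjRes.resι I) (h _ (fun _ => inferInstance) fun n =>
    hP (isoOfQuasiIsoAt (Groth.L10.KInjRes.resι I) n) (hI n))

/-- The torsion subcomplex functor. -/
abbrev gCx : CochainComplex (FSch.ModF 𝔛 hX.1) ℤ ⥤ CochainComplex (FSch.ModF 𝔛 hX.1) ℤ :=
  (_root_.FTors.gammaT 𝔛 hX.1).mapHomologicalComplex (ComplexShape.up ℤ)

/-- Its inclusion. -/
@[simps]
def gι : gCx hX ⟶ 𝟭 _ where
  app K :=
    { f := fun i => γ (K.X i)
      comm' := fun i j _ => ((_root_.FTors.gammaTι 𝔛 hX.1).naturality (K.d i j)).symm }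
  naturality K L φ := by
    ext i : 1
    exact (_root_.FTors.gammaTι 𝔛 hX.1).naturality (φ.f i)

theorem isTorsF_of_mono {N M : FSch.ModF 𝔛 hX.1} (f : N ⟶ M) [Mono f]
    (h : _root_.FTors.IsTorsF 𝔛 hX.1 M) : _root_.FTors.IsTorsF 𝔛 hX.1 N :=
  fun U s => Tors.of_mono f (h U (apF f U s))

theorem isTorsF_of_epi {N M : FSch.ModF 𝔛 hX.1} (f : N ⟶ M) [Epi f]
    (h : _root_.FTors.IsTorsF 𝔛 hX.1 N) : _root_.FTors.IsTorsF 𝔛 hX.1 M := fun U s => by
  refine tors_iff.2 fun x hx => ?_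
  obtain ⟨V, e, hxV, a, ha⟩ := exists_lift f s x hx
  obtain ⟨W, e', hxW, k, hk⟩ := tors_iff.1 (h V a) x hxV
  refine ⟨W, e'.trans e, hxW, k, ?_⟩
  have h1 := hk.ap f
  rw [apF_rsF] at h1
  rw [show apF f V a = rsF M e s from ha, rsF_rsF] at h1
  exact h1

theorem isTorsF_of_iso {N M : FSch.ModF 𝔛 hX.1} (e : N ≅ M) (h : _root_.FTors.IsTorsF 𝔛 hX.1 N) :
    _root_.FTors.IsTorsF 𝔛 hX.1 M := isTorsF_of_epi hX e.hom h

theorem isTorsF_homology_gCx (K : CochainComplex (FSch.ModF 𝔛 hX.1) ℤ) (n : ℤ) :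
    _root_.FTors.IsTorsF 𝔛 hX.1 (((gCx hX).obj K).homology n) :=
  isTorsF_of_epi hX (((gCx hX).obj K).homologyπ n)
    (isTorsF_of_mono hX (((gCx hX).obj K).iCycles n) (isTorsF_Γt (K.X n)))

theorem exists_gens {U : (𝔛.X 0).Opens} (hU : IsAffineOpen U) :
    ∃ (r : ℕ) (t : Fin r → O 𝔛 hX.1 U), Ideal.span (Set.range t) = J 𝔛 hX.1 U := by
  haveI := (O_spec 𝔛 hX hU).1
  exact Submodule.fg_iff_exists_fin_generating_family.1 (IsNoetherian.noetherian (J 𝔛 hX.1 U))

/-- A complex of injective modules with torsion cohomology is quasi-isomorphic to its torsion subcomplex. -/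
theorem quasiIso_gι_of_injective (I : CochainComplex (FSch.ModF 𝔛 hX.1) ℤ) (hinj : ∀ n, Injective (I.X n))
    (htor : ∀ n, _root_.FTors.IsTorsF 𝔛 hX.1 (I.homology n)) : QuasiIso ((gι hX).app I) where
  quasiIsoAt n := by
    refine quasiIsoAt_of_local (K := (gCx hX).obj I) (L := I) n ((gι hX).app I) (fun U z hz x hx => ?_) fun U w y hw hwy x hx => ?_
    · obtain ⟨W, hW, hxW, hle⟩ := exists_affine_nhd hx
      obtain ⟨r, t, ht⟩ := exists_gens hX hW
      obtain ⟨V, e, hV, hxV, a, s, y, hs, hzs⟩ := stepA hX I hinj htor hW t ht r le_rfl (n - 1) n (n + 1) (by omega) rfl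
        le_rfl hW (rsF (I.X n) hle z) ((apF_rsF _ hle z).trans ((congrArg (rsF _ hle) hz).trans (res_zero _ _))) x hxW
      obtain ⟨w, hw⟩ := exists_Γt (tors_of_kPow hX hW hV (e.trans le_rfl) ht hs)
      refine ⟨V, e.trans hle, hxV, w, y, ?_, (rsF_rsF _ hle e z).symm.trans (hzs.trans (by rw [← hw]; rfl))⟩
      refine injective_apF (γ (I.X (n + 1))) V (Eq.trans ?_ (map_zero _).symm)
      refine ((ap_congr ((_root_.FTors.gammaTι 𝔛 hX.1).naturality (I.d n (n + 1))) V w).trans ?_)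
      show apF (I.d n (n + 1)) V (apF (γ (I.X n)) V w) = 0
      rw [hw, eq_sub_of_add_eq hzs.symm, map_sub, dd hX, sub_zero, apF_rsF, apF_rsF, hz]
      exact (congrArg (rsF _ e) (res_zero _ _)).trans (res_zero _ _)
    · obtain ⟨W, hW, hxW, hle⟩ := exists_affine_nhd hx
      obtain ⟨r, t, ht⟩ := exists_gens hX hW
      obtain ⟨a, ha⟩ := exists_kPow hX hW hW le_rfl ht (s := rsF (I.X n) hle (apF (γ (I.X n)) U w))
        (by rw [← apF_rsF]; exact tors_γ _)
      obtain ⟨V, e, hV, hxV, b, y', hy', hd⟩ := stepB hX I hinj htor hW t ht r le_rfl (n - 1) n (by omega)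
        le_rfl hW a _ ha (rsF (I.X (n - 1)) hle y) ((apF_rsF _ hle y).trans (congrArg (rsF _ hle) hwy.symm)) x hxW
      obtain ⟨v, hv⟩ := exists_Γt (tors_of_kPow hX hW hV (e.trans le_rfl) ht hy')
      refine ⟨V, e.trans hle, hxV, v, injective_apF (γ (I.X n)) V ?_⟩
      refine ((ap_congr ((_root_.FTors.gammaTι 𝔛 hX.1).naturality (I.d (n - 1) n)) V v).trans ?_)
      show apF (I.d (n - 1) n) V (apF (γ (I.X (n - 1))) V v) = apF (γ (I.X n)) V (rsF _ (e.trans hle) w)
      rw [hv, hd, apF_rsF, rsF_rsF]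

/-- A K-injective complex with torsion cohomology is quasi-isomorphic to its torsion subcomplex. -/
theorem quasiIso_gι (I : CochainComplex (FSch.ModF 𝔛 hX.1) ℤ) [I.IsKInjective]
    (htor : ∀ n, _root_.FTors.IsTorsF 𝔛 hX.1 (I.homology n)) : QuasiIso ((gι hX).app I) := by
  haveI : IsGrothendieckAbelian.{u} (FSch.ModF 𝔛 hX.1) := Groth.L10.shMod_isGrothendieckAbelian _
  exact quasiIso_app_of_kInjective _ (gι hX) (_root_.FTors.IsTorsF 𝔛 hX.1) (fun e h => isTorsF_of_iso hX e h)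
    (quasiIso_gι_of_injective hX) I htor

end Groth.L04.FTorsD
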