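import Groth.Agent.L04.FTorsD.Coreflect
import Groth.Agent.L04.FTorsD.Gamma

/-!
# The derived torsion functor of a formal scheme on K-injective complexes
-/

set_option autoImplicit false
set_option linter.style.haveILetI false
set_option linter.unusedSectionVars false
set_option backward.isDefEq.respectTransparency false
set_option backward.isDefEq.respectTransparency.types false

universe u

open CategoryTheory CategoryTheory.Limits AlgebraicGeometry TopologicalSpace Opposite

attribute [local instance] HasDerivedCategory.standard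

noncomputable section

namespace Groth.L04.FTorsD

open Groth.L04.FTorsD.Coreflect

section Generic

variable {C : Type u} [SmallCategory C] {J : GrothendieckTopology C} {O : Sheaf J CommRingCat.{u}}
  (I : _root_.FTors.IdealFam O)

/-- The inclusion of the torsion subcomplex. -/
@[simps]
def ιCx : (_root_.FTors.gamma O I).mapHomologicalComplex (ComplexShape.up ℤ) ⟶ 𝟭 _ where
  app K :=
    { f := fun i => (_root_.FTors.gammaι I).app (K.X i)
      comm' := fun i j _ => ((_root_.FTors.gammaι I).naturality (K.d i j)).symm }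
  naturality K L φ := by
    ext i : 1
    exact (_root_.FTors.gammaι I).naturality (φ.f i)

variable [_root_.FTors.HasRgamma I]

/-- The comparison from the torsion subcomplex. -/
def toR (X : CochainComplex (ModSite.Mod O) ℤ) :
    qq.obj (((_root_.FTors.gamma O I).mapHomologicalComplex _).obj X) ⟶ (_root_.FTors.Rgamma I).obj (qq.obj X) :=
  ((_root_.FTors.gammaKh I).totalRightDerivedUnit DerivedCategory.Qh
    (HomotopyCategory.quasiIso (ModSite.Mod O) (ComplexShape.up ℤ))).app
    ((HomotopyCategory.quotient (ModSite.Mod O) (ComplexShape.up ℤ)).obj X)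

theorem toR_ε (X : CochainComplex (ModSite.Mod O) ℤ) :
    toR I X ≫ (_root_.FTors.Rgammaε I).app (qq.obj X) = qq.map ((ιCx I).app X) := by
  refine ((_root_.FTors.Rgamma I).rightDerived_fac_app _ _ _ _ _).trans ?_
  show (_root_.FTors.gammaτ0 I).app X ≫ 𝟙 _ = _
  simp [_root_.FTors.gammaτ0]
  erw [show ((_root_.FTors.gamma O I).mapHomotopyCategoryFactors (ComplexShape.up ℤ)).hom.app X = 𝟙 _ from rfl,
    CategoryTheory.Functor.map_id, Category.id_comp, ← Functor.map_comp, ← Functor.map_comp]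
  congr 2

theorem isIso_toR (X : CochainComplex (ModSite.Mod O) ℤ) [X.IsKInjective]
    [Groth.L10.KInjDerived.EnoughKInjectives (ModSite.Mod O)] : IsIso (toR I X) :=
  Groth.L10.KInjDerived.isIso_app_quotient
    ((_root_.FTors.gammaKh I).totalRightDerivedUnit DerivedCategory.Qh
      (HomotopyCategory.quasiIso (ModSite.Mod O) (ComplexShape.up ℤ))) X

/-- The torsion criterion, given the local computation on K-injective complexes. -/
theorem isDTors_iff_isIso (hiso : ∀ {A B : ModSite.Mod O}, (A ≅ B) → _root_.FTors.IsTors I A → _root_.FTors.IsTors I B)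
    (hG : ∀ X (n : ℤ), _root_.FTors.IsTors I ((((_root_.FTors.gamma O I).mapHomologicalComplex
      (ComplexShape.up ℤ)).obj X).homology n))
    (hq : ∀ (R : CochainComplex (ModSite.Mod O) ℤ) [R.IsKInjective],
      (∀ n, _root_.FTors.IsTors I (R.homology n)) → QuasiIso ((ιCx I).app R))
    (E : DerivedCategory (ModSite.Mod O)) :
    _root_.FTors.IsDTors I E ↔ IsIso ((_root_.FTors.Rgammaε I).app E) := by
  haveI : IsGrothendieckAbelian.{u} (ModSite.Mod O) := Groth.L10.shMod_isGrothendieckAbelian _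
  obtain ⟨R, hR, ⟨e⟩⟩ := exists_rep E
  haveI := isIso_toR I R
  rw [← NatTrans.isIso_app_iff_of_iso (_root_.FTors.Rgammaε I) e]
  refine ⟨fun h => ?_, fun h n => ?_⟩
  · haveI := hq R fun n => hiso ((DerivedCategory.homologyFunctor _ n).mapIso e.symm ≪≫ hdIso R n) (h n)
    haveI : IsIso (toR I R ≫ (_root_.FTors.Rgammaε I).app (qq.obj R)) := by
      rw [toR_ε]; exact isIso_qq_map _
    exact IsIso.of_isIso_comp_left (toR I R) _
  · haveI : IsIso (qq.map ((ιCx I).app R)) := by rw [← toR_ε]; infer_instance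
    haveI := quasiIso_of_isIso_qq_map ((ιCx I).app R)
    haveI := quasiIso_of_isIso_qq_map ((ιCx I).app R) |>.quasiIsoAt n
    exact hiso ((isoOfQuasiIsoAt ((ιCx I).app R) n) ≪≫ (hdIso R n).symm ≪≫
      (DerivedCategory.homologyFunctor _ n).mapIso e) (hG R n)

/-- The universal property of the derived torsion functor, given the local computation. -/
theorem bijective_comp_ε (hiso : ∀ {A B : ModSite.Mod O}, (A ≅ B) → _root_.FTors.IsTors I A → _root_.FTors.IsTors I B)
    (hG : ∀ X (n : ℤ), _root_.FTors.IsTors I ((((_root_.FTors.gamma O I).mapHomologicalComplex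
      (ComplexShape.up ℤ)).obj X).homology n))
    (hidem : ∀ X, IsIso ((ιCx I).app (((_root_.FTors.gamma O I).mapHomologicalComplex (ComplexShape.up ℤ)).obj X)))
    (hidem' : ∀ X, IsIso (((_root_.FTors.gamma O I).mapHomologicalComplex (ComplexShape.up ℤ)).map ((ιCx I).app X)))
    (hq : ∀ (R : CochainComplex (ModSite.Mod O) ℤ) [R.IsKInjective],
      (∀ n, _root_.FTors.IsTors I (R.homology n)) → QuasiIso ((ιCx I).app R))
    (E F : DerivedCategory (ModSite.Mod O)) (hE : _root_.FTors.IsDTors I E) :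
    Function.Bijective (fun φ : E ⟶ (_root_.FTors.Rgamma I).obj F => φ ≫ (_root_.FTors.Rgammaε I).app F) := by
  haveI : IsGrothendieckAbelian.{u} (ModSite.Mod O) := Groth.L10.shMod_isGrothendieckAbelian _
  obtain ⟨R, hR, ⟨e⟩⟩ := exists_rep E
  obtain ⟨S, hS, ⟨e'⟩⟩ := exists_rep F
  haveI := hq R fun n => hiso ((DerivedCategory.homologyFunctor _ n).mapIso e.symm ≪≫ hdIso R n) (hE n)
  haveI := isIso_qq_map ((ιCx I).app R)
  haveI := isIso_toR I S
  let a : qq.obj (((_root_.FTors.gamma O I).mapHomologicalComplex _).obj R) ≅ E :=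
    asIso (qq.map ((ιCx I).app R)) ≪≫ e
  let b : qq.obj (((_root_.FTors.gamma O I).mapHomologicalComplex _).obj S) ≅ (_root_.FTors.Rgamma I).obj F :=
    asIso (toR I S) ≪≫ (_root_.FTors.Rgamma I).mapIso e'
  have hb : b.hom ≫ (_root_.FTors.Rgammaε I).app F = qq.map ((ιCx I).app S) ≫ e'.hom := by
    show (toR I S ≫ (_root_.FTors.Rgamma I).map e'.hom) ≫ _ = _
    rw [Category.assoc, (_root_.FTors.Rgammaε I).naturality, ← Category.assoc, toR_ε]
    rfl
  have := bijective_comp (_root_.FTors.gamma O I) (ιCx I) hidem hidem' (_root_.FTors.IsTors I) hiso hG hq R S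
  have h : (fun φ : E ⟶ (_root_.FTors.Rgamma I).obj F => φ ≫ (_root_.FTors.Rgammaε I).app F) =
      (fun ψ => a.inv ≫ ψ ≫ e'.hom) ∘ (fun φ => φ ≫ qq.map ((ιCx I).app S)) ∘ (fun φ => a.hom ≫ φ ≫ b.inv) := by
    funext φ
    simp only [Function.comp_apply, Category.assoc]
    rw [← hb, Iso.inv_hom_id_assoc, Iso.inv_hom_id_assoc]
  rw [h]
  exact ((a.homCongr e').bijective).comp (this.comp ((a.symm.homCongr b.symm).bijective))

end Generic

open Groth.L28.QCT Groth.L09.IndCoh

variable {𝔛 : FSch.Sys.{u}}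

theorem isIso_γ_of_tors {h : 𝔛.IsFormal} {M : FSch.ModF 𝔛 h} (hM : _root_.FTors.IsTorsF 𝔛 h M) : IsIso (γ M) := by
  obtain ⟨g, hg⟩ := exists_lift_Γt hM (𝟙 M)
  exact ⟨g, (cancel_mono (γ M)).1 (by rw [Category.assoc, hg, Category.id_comp, Category.comp_id]), hg⟩

variable (hX : 𝔛.IsLocNoethFormal)

theorem isIso_gι_gCx (X : CochainComplex (FSch.ModF 𝔛 hX.1) ℤ) :
    IsIso ((ιCx (_root_.FTors.openIdealFam 𝔛 hX.1)).app ((gCx hX).obj X)) := by
  haveI : ∀ n, IsIso (((ιCx (_root_.FTors.openIdealFam 𝔛 hX.1)).app ((gCx hX).obj X)).f n) := fun n =>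
    isIso_γ_of_tors (isTorsF_Γt (X.X n))
  exact HomologicalComplex.Hom.isIso_of_components _

theorem isIso_gCx_gι (X : CochainComplex (FSch.ModF 𝔛 hX.1) ℤ) :
    IsIso ((gCx hX).map ((ιCx (_root_.FTors.openIdealFam 𝔛 hX.1)).app X)) := by
  haveI : ∀ n, IsIso (((gCx hX).map ((ιCx (_root_.FTors.openIdealFam 𝔛 hX.1)).app X)).f n) := fun n => by
    haveI := isIso_γ_of_tors (isTorsF_Γt (X.X n))
    have h1 : (_root_.FTors.gammaT 𝔛 hX.1).map (γ (X.X n)) = γ (Γt (X.X n)) :=
      (cancel_mono (γ (X.X n))).1 ((_root_.FTors.gammaTι 𝔛 hX.1).naturality (γ (X.X n)))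
    show IsIso ((_root_.FTors.gammaT 𝔛 hX.1).map (γ (X.X n)))
    rw [h1]
    infer_instance
  exact HomologicalComplex.Hom.isIso_of_components _

end Groth.L04.FTorsD
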