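import Groth.Agent.L04.FTorsD.InjExt
import Groth.Agent.L28.FTors.Torsion

/-!
# Division by generators of the ideal of definition in injective modules on formal schemes
-/

set_option autoImplicit false
set_option linter.style.haveILetI false
set_option linter.unusedSectionVars false
set_option backward.isDefEq.respectTransparency false
set_option backward.isDefEq.respectTransparency.types false

universe u

open CategoryTheory CategoryTheory.Limits AlgebraicGeometry TopologicalSpace Opposite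

noncomputable section

namespace Groth.L04.FTorsD

open Groth.L17.FSheaf Groth.L09.IndCoh Groth.L28.QCT

variable {𝔛 : FSch.Sys.{u}} (hX : 𝔛.IsLocNoethFormal) {M : FSch.ModF 𝔛 hX.1}
  {U V : (𝔛.X 0).Opens} {r : ℕ} (t : Fin r → O 𝔛 hX.1 U) (e : V ≤ U)

/-- A section killed by the `a`-th powers of the first `j` of the given functions. -/
def KPow (j a : ℕ) (s : SF 𝔛 hX.1 M V) : Prop :=
  ∀ i : Fin r, i.1 < j → resO 𝔛 hX.1 e (t i) ^ a • s = 0

variable {t e}

theorem KPow.mono {j a b : ℕ} {s : SF 𝔛 hX.1 M V} (h : KPow hX t e j a s) (hab : a ≤ b) : KPow hX t e j b s :=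
  fun i hi => by
    obtain ⟨c, rfl⟩ := Nat.exists_eq_add_of_le hab
    rw [add_comm, pow_add, mul_smul, h i hi, smul_zero]

theorem KPow.res {j a : ℕ} {s : SF 𝔛 hX.1 M V} (h : KPow hX t e j a s) {W : (𝔛.X 0).Opens} (e' : W ≤ V) :
    KPow hX t (e'.trans e) j a (rsF M e' s) := fun i hi => by
  rw [← resO_resO (h := hX.1) e e', ← map_pow, ← rsF_smul hX, h i hi]
  exact res_zero M _

theorem KPow.add {j a : ℕ} {s s' : SF 𝔛 hX.1 M V} (h : KPow hX t e j a s) (h' : KPow hX t e j a s') :
    KPow hX t e j a (s + s') := fun i hi => by rw [smul_add, h i hi, h' i hi, add_zero]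

theorem KPow.sub {j a : ℕ} {s s' : SF 𝔛 hX.1 M V} (h : KPow hX t e j a s) (h' : KPow hX t e j a s') :
    KPow hX t e j a (s - s') := fun i hi => by rw [smul_sub, h i hi, h' i hi, sub_self]

theorem KPow.smul {j a : ℕ} {s : SF 𝔛 hX.1 M V} (h : KPow hX t e j a s) (c : O 𝔛 hX.1 V) :
    KPow hX t e j a (c • s) := fun i hi => by rw [smul_comm, h i hi, smul_zero]

theorem KPow.ap {N : FSch.ModF 𝔛 hX.1} (f : M ⟶ N) {j a : ℕ} {s : SF 𝔛 hX.1 M V} (h : KPow hX t e j a s) :
    KPow hX t e j a (apF f V s) := fun i hi => by rw [← map_smul, h i hi, map_zero]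

theorem kPow_zero (a : ℕ) (s : SF 𝔛 hX.1 M V) : KPow hX t e 0 a s := fun i hi => absurd hi (Nat.not_lt_zero _)

theorem KPow.succ {j a : ℕ} {s : SF 𝔛 hX.1 M V} (h : KPow hX t e j a s) (hj : j < r)
    (h' : resO 𝔛 hX.1 e (t ⟨j, hj⟩) ^ a • s = 0) : KPow hX t e (j + 1) a s := fun i hi => by
  rcases Nat.lt_succ_iff_lt_or_eq.1 hi with hi | hi
  · exact h i hi
  · rwa [show i = ⟨j, hj⟩ from Fin.ext hi]

/-- The colon ideals by the powers of a function stabilise. -/
theorem exists_colon_stable (hV : IsAffineOpen V) (A : Ideal (O 𝔛 hX.1 V)) (b : O 𝔛 hX.1 V) :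
    ∃ m₀, ∀ (c : O 𝔛 hX.1 V) (n : ℕ), c * b ^ n ∈ A → c * b ^ m₀ ∈ A := by
  haveI := (O_spec 𝔛 hX hV).1
  let Q : ℕ →o Ideal (O 𝔛 hX.1 V) :=
    { toFun := fun n =>
        { carrier := {c | c * b ^ n ∈ A}
          zero_mem' := by simp
          add_mem' := fun {x y} hx hy => by
            show (x + y) * b ^ n ∈ A
            rw [add_mul]; exact A.add_mem hx hy
          smul_mem' := fun d x hx => by
            show d * x * b ^ n ∈ A
            rw [mul_assoc]; exact A.mul_mem_left d hx }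
      monotone' := fun n n' h c (hc : c * b ^ n ∈ A) => by
        show c * b ^ n' ∈ A
        obtain ⟨d, rfl⟩ := Nat.exists_eq_add_of_le h
        rw [pow_add, ← mul_assoc]
        exact A.mul_mem_right _ hc }
  obtain ⟨m₀, hm⟩ := monotone_stabilizes_iff_noetherian.2 inferInstance Q
  refine ⟨m₀, fun c n hc => ?_⟩
  have h1 : c ∈ Q (max n m₀) := Q.monotone (le_max_left n m₀) hc
  rw [← hm _ (le_max_right n m₀)] at h1
  exact h1

/-- In an injective module a torsion section is, up to a power, divisible among the torsion sections. -/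
theorem divide [Injective M] (hV : IsAffineOpen V) {j : ℕ} (hj : j < r) {a : ℕ} {s : SF 𝔛 hX.1 M V}
    (hs : KPow hX t e j a s) (k : ℕ) :
    ∃ (m : ℕ) (z : SF 𝔛 hX.1 M V), KPow hX t e j a z ∧
      resO 𝔛 hX.1 e (t ⟨j, hj⟩) ^ (k + m) • z = resO 𝔛 hX.1 e (t ⟨j, hj⟩) ^ m • s := by
  classical
  haveI := (O_spec 𝔛 hX hV).1
  let b := resO 𝔛 hX.1 e (t ⟨j, hj⟩)
  let g : Fin r → O 𝔛 hX.1 V := fun i => if i.1 < j then resO 𝔛 hX.1 e (t i) ^ a else 0
  have hg : ∀ i, g i • s = 0 := fun i => by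
    simp only [g]
    split
    · exact hs i ‹_›
    · exact zero_smul _ _
  obtain ⟨m, hm⟩ := exists_colon_stable hX hV (Ideal.span (Set.range g)) b
  let f : Fin (r + 1) → O 𝔛 hX.1 V := Fin.snoc g (b ^ (k + m))
  let T : Fin (r + 1) → SF 𝔛 hX.1 M V := Fin.snoc (fun _ => 0) (b ^ m • s)
  let π := Fintype.linearCombination (O 𝔛 hX.1 V) f
  obtain ⟨p, ρ, hρ⟩ := Module.Finite.exists_fin (R := O 𝔛 hX.1 V) (M := LinearMap.ker π)
  have hρ0 : ∀ l, ((ρ l).1 (Fin.last r) * b ^ m) • s = 0 := by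
    intro l
    have h0 : ∑ i, (ρ l).1 i * f i = 0 := by
      have := (ρ l).2
      rw [LinearMap.mem_ker, Fintype.linearCombination_apply] at this
      simpa using this
    rw [Fin.sum_univ_castSucc] at h0
    simp only [f, Fin.snoc_castSucc, Fin.snoc_last] at h0
    have h1 : (ρ l).1 (Fin.last r) * b ^ m ∈ Ideal.span (Set.range g) := by
      refine hm _ (k + m) ?_
      rw [eq_neg_of_add_eq_zero_right h0]
      exact neg_mem (Ideal.sum_mem _ fun i _ => Ideal.mul_mem_left _ _ (Ideal.subset_span ⟨i, rfl⟩))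
    obtain ⟨c, hc⟩ := (Submodule.mem_span_range_iff_exists_fun _).1 h1
    rw [← hc, Finset.sum_smul]
    exact Finset.sum_eq_zero fun i _ => by rw [smul_eq_mul, mul_smul, hg, smul_zero]
  obtain ⟨z, hz⟩ := exists_smul_eq_of_injective (R := ModSite.ringSh (𝔛.Osh hX.1)) M f T (by
    intro W d hd
    rcases isEmpty_or_nonempty (W.unop ⟶ V) with hW | ⟨⟨ι⟩⟩
    · rw [Subsingleton.elim d 0, map_zero]
    let φ := Finsupp.linearCombination (O 𝔛 hX.1 W.unop) (fun _ : W.unop ⟶ V => (1 : O 𝔛 hX.1 W.unop))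
    let c : Fin (r + 1) → O 𝔛 hX.1 W.unop := fun i => d (i, ι)
    have hsum : d = ∑ i, Finsupp.single (i, ι) (c i) := by
      ext p
      obtain ⟨i, ι'⟩ := p
      obtain rfl := Subsingleton.elim ι ι'
      refine Eq.trans ?_ (Finsupp.finsetSum_apply _ _ _).symm
      refine Eq.trans ?_ (Finset.sum_eq_single i (fun i' _ hne => ?_) fun h => absurd (Finset.mem_univ i) h).symm
      · exact (Finsupp.single_eq_same).symm
      · exact Finsupp.single_eq_of_ne (fun h => hne (Prod.ext_iff.1 h).1.symm)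
    have h0 : ∑ i, c i * resO 𝔛 hX.1 (leOfHom ι) (f i) = 0 := by
      rw [hsum, map_sum] at hd
      have h1 := congrArg φ hd
      rw [map_sum, map_zero] at h1
      refine Eq.trans (Finset.sum_congr rfl fun i _ => ?_) h1
      rw [combMap_single, PresheafOfModules.map_smul]
      have h3 : φ (((PresheafOfModules.free (ModSite.ringSh (𝔛.Osh hX.1)).obj).obj (yoneda.obj V)).map ι.op
          (ModuleCat.freeMk (𝟙 V))) = 1 := by
        refine (congrArg φ (ModuleCat.freeDesc_apply _ (𝟙 V))).trans ?_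
        refine (Finsupp.linearCombination_single _ _ _).trans ?_
        exact one_smul _ _
      refine Eq.symm ((φ.map_smul _ _).trans ((congrArg (c i • ·) (φ.map_smul _ _)).trans ?_))
      refine (congrArg (fun y => c i • (resO 𝔛 hX.1 (leOfHom ι) (f i) • y)) h3).trans ?_
      simp [smul_eq_mul]
    rw [hsum, map_sum]
    refine (Finset.sum_congr rfl fun i _ => combMap_single M.val T W i ι (c i)).trans ?_
    rw [Fin.sum_univ_castSucc]
    simp only [T, Fin.snoc_castSucc, Fin.snoc_last]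
    refine (congrArg₂ (· + ·) (Finset.sum_eq_zero fun i _ =>
      (congrArg (c i.castSucc • ·) (res_zero M (leOfHom ι))).trans (smul_zero _)) rfl).trans ?_
    rw [zero_add]
    show c (Fin.last r) • rsF M (leOfHom ι) (b ^ m • s) = 0
    refine eq_of_locally M _ _ fun x hx => ?_
    obtain ⟨W', hW', hxW', hle⟩ := Opens.isBasis_iff_nbhd.1 (𝔛.X 0).isBasis_affineOpens hx
    refine ⟨W', hle, hxW', ?_⟩
    obtain ⟨q, hq⟩ := rel_restrict 𝔛 hX hV hW' (hle.trans (leOfHom ι)) f (fun l => (ρ l).1) (fun c' hc' => by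
      obtain ⟨q, hq⟩ := (Submodule.mem_span_range_iff_exists_fun _).1
        (hρ ▸ Submodule.mem_top : (⟨c', by simpa [π, Fintype.linearCombination_apply] using hc'⟩ : LinearMap.ker π) ∈ _)
      refine ⟨q, fun i => ?_⟩
      have := congrArg (fun z : LinearMap.ker π => (z : Fin (r + 1) → O 𝔛 hX.1 V) i) hq
      simpa using this.symm) (fun i => resO 𝔛 hX.1 hle (c i)) (by
      have h2 := congrArg (resO 𝔛 hX.1 hle) h0
      rw [map_sum, map_zero] at h2
      refine Eq.trans (Finset.sum_congr rfl fun i _ => ?_) h2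
      rw [map_mul, resO_resO])
    rw [res_zero]
    refine (rsF_smul hX hle _ _).trans ?_
    rw [rsF_rsF, hq, Finset.sum_smul]
    refine Finset.sum_eq_zero fun l _ => ?_
    rw [mul_smul, ← rsF_smul hX, ← mul_smul, hρ0, smul_eq_zero_of_right]
    exact res_zero M _)
  refine ⟨m, z, fun i hi => ?_, ?_⟩
  · have := hz i.castSucc
    simp only [f, T, Fin.snoc_castSucc, g, if_pos hi] at this
    exact this
  · have := hz (Fin.last r)
    simp only [f, T, Fin.snoc_last] at this
    exact this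

end Groth.L04.FTorsD
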