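import Groth.Agent.L04.FTorsD.Gamma
import Groth.Agent.L29.DCoh.DerAdj
import Mathlib.CategoryTheory.ObjectProperty.FullSubcategory

/-!
# The derived category of torsion modules on a formal scheme
-/

set_option autoImplicit false
set_option linter.style.haveILetI false
set_option linter.unusedSectionVars false
set_option backward.isDefEq.respectTransparency false
set_option backward.isDefEq.respectTransparency.types false

universe u

open CategoryTheory CategoryTheory.Limits AlgebraicGeometry TopologicalSpace Opposite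

attribute [local instance] HasDerivedCategory.standard

noncomputable section

namespace Groth.L04.FTorsD

open Groth.L28.QCT Groth.L09.IndCoh

variable {𝔛 : FSch.Sys.{u}} (hX : 𝔛.IsLocNoethFormal)

/-- The torsion functor with values in the torsion modules. -/
abbrev gammaLift : FSch.ModF 𝔛 hX.1 ⥤ (_root_.FTors.IsTorsF 𝔛 hX.1).FullSubcategory :=
  ObjectProperty.lift _ (_root_.FTors.gammaT 𝔛 hX.1) fun M => isTorsF_Γt M

/-- The torsion functor is right adjoint to the inclusion of the torsion modules. -/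
def adjT : (_root_.FTors.IsTorsF 𝔛 hX.1).ι ⊣ gammaLift hX :=
  Adjunction.mkOfHomEquiv
    { homEquiv := fun N M =>
        { toFun := fun f => (ObjectProperty.homMk (exists_lift_Γt N.property f).choose : N ⟶ (gammaLift hX).obj M)
          invFun := fun g => (g.hom ≫ γ M : (_root_.FTors.IsTorsF 𝔛 hX.1).ι.obj N ⟶ M)
          left_inv := fun f => (exists_lift_Γt N.property f).choose_spec
          right_inv := fun g => by
            apply ObjectProperty.hom_ext
            refine (cancel_mono (γ M)).1 ?_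
            exact (exists_lift_Γt N.property (g.hom ≫ γ M)).choose_spec }
      homEquiv_naturality_left_symm := fun {N' N M} f g => by
        exact Category.assoc f.hom g.hom (γ M)
      homEquiv_naturality_right := fun {N M M'} f g => by
        apply ObjectProperty.hom_ext
        refine (cancel_mono (γ M')).1 ?_
        refine ((exists_lift_Γt N.property (f ≫ g)).choose_spec).trans ?_
        show f ≫ g = ((exists_lift_Γt N.property f).choose ≫ (_root_.FTors.gammaT 𝔛 hX.1).map g) ≫ γ M'
        rw [Category.assoc]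
        refine Eq.trans ?_ (congrArg ((exists_lift_Γt N.property f).choose ≫ ·)
          ((_root_.FTors.gammaTι 𝔛 hX.1).naturality g)).symm
        exact (congrArg (· ≫ g) (exists_lift_Γt N.property f).choose_spec).symm.trans (Category.assoc _ _ _) }

theorem counit_adjT (M : FSch.ModF 𝔛 hX.1) : (adjT hX).counit.app M = γ M :=
  Category.id_comp _

theorem quasiIso_congr {C : Type*} [Category C] [Abelian C] {K L : CochainComplex C ℤ} {f g : K ⟶ L}
    (h : f = g) [QuasiIso g] : QuasiIso f := h ▸ inferInstance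

variable [(_root_.FTors.IsTorsF 𝔛 hX.1).ContainsZero] [(_root_.FTors.IsTorsF 𝔛 hX.1).IsClosedUnderKernels]
  [(_root_.FTors.IsTorsF 𝔛 hX.1).IsClosedUnderCokernels] [(_root_.FTors.IsTorsF 𝔛 hX.1).IsClosedUnderFiniteProducts]
  [PreservesFiniteLimits (_root_.FTors.IsTorsF 𝔛 hX.1).ι] [PreservesFiniteColimits (_root_.FTors.IsTorsF 𝔛 hX.1).ι]

theorem full_faithful_essImage :
    (_root_.FTors.IsTorsF 𝔛 hX.1).ι.mapDerivedCategory.Full ∧ (_root_.FTors.IsTorsF 𝔛 hX.1).ι.mapDerivedCategory.Faithful ∧
      ∀ G : DerivedCategory (FSch.ModF 𝔛 hX.1),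
        (_root_.FTors.IsTorsF 𝔛 hX.1).ι.mapDerivedCategory.essImage G ↔ _root_.FTors.IsDTorsF 𝔛 hX.1 G := by
  haveI : IsGrothendieckAbelian.{u} (FSch.ModF 𝔛 hX.1) := Groth.L10.shMod_isGrothendieckAbelian _
  haveI : (gammaLift hX).Additive := ⟨fun {M N f g} => ObjectProperty.hom_ext _
    ((_root_.FTors.gammaT 𝔛 hX.1).map_add (f := f) (g := g))⟩
  have hmem : ∀ M, (_root_.FTors.IsTorsF 𝔛 hX.1).ι.essImage M ↔ _root_.FTors.IsTorsF 𝔛 hX.1 M := fun M =>
    ⟨fun ⟨N, ⟨e⟩⟩ => isTorsF_of_iso hX e N.property, fun hM => ⟨⟨M, hM⟩, ⟨Iso.refl _⟩⟩⟩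
  have hε : ∀ I : CochainComplex (FSch.ModF 𝔛 hX.1) ℤ, CochainComplex.IsKInjective I →
      (∀ i, (_root_.FTors.IsTorsF 𝔛 hX.1).ι.essImage (I.homology i)) →
      QuasiIso (Groth.L29.DC.DerAdj.εI (adjT hX) I) := fun I hI h => by
    haveI := quasiIso_gι hX I fun n => (hmem _).1 (h n)
    have e : Groth.L29.DC.DerAdj.εI (adjT hX) I = (gι hX).app I :=
      HomologicalComplex.hom_ext _ _ fun i => counit_adjT hX (I.X i)
    rw [e]
    exact quasiIso_gι hX I fun n => (hmem _).1 (h n)
  obtain ⟨h1, h2⟩ := Groth.L29.DC.DerAdj.fullyFaithful (adjT hX) hε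
  refine ⟨h1, h2, fun G => ?_⟩
  refine ((Groth.L29.DC.DerAdj.mem_essImage_iff (adjT hX) hε G).symm).trans (forall_congr' fun i => hmem _)

end Groth.L04.FTorsD
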