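import Groth.Agent.L04.FTorsD.Derived
import Groth.Agent.L04.DerComp.Killed
import Groth.Agent.L04.DerComp.NilFil
import Groth.Agent.L04.DerComp.Exists
import Groth.Agent.L04.DerComp.KosLoc
import Groth.Agent.L28.FTors.Main

/-!
# Complexes without derived torsion are killed by derived completion

The sheaf of ideals of definition of a formal scheme, and the consequence of the universal property of the derived
torsion functor for derived completion along it.
-/

set_option autoImplicit false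
set_option linter.style.haveILetI false
set_option linter.unusedSectionVars false
set_option backward.defeqAttrib.useBackward true
set_option backward.isDefEq.respectTransparency false
set_option backward.isDefEq.respectTransparency.types false

universe u

open CategoryTheory CategoryTheory.Limits AlgebraicGeometry TopologicalSpace Opposite CategoryTheory.Pretriangulated
  Groth.L17.FSheaf Groth.L09.IndCoh Groth.L28.QCT

noncomputable section

attribute [local instance] HasDerivedCategory.standard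

namespace Groth.L04.FTorsD

variable {𝔛 : FSch.Sys.{u}}

/-- The sheaf of ideals of definition. -/
def idealJ (h : 𝔛.IsFormal) : DerComp.IdealSh (𝔛.Osh h) where
  ideal U := J 𝔛 h U
  map_mem {U V} g f hf := by
    have hf' : pR 𝔛 h 0 U f = 0 := hf
    have e := congrArg (fun φ => φ.hom f) ((𝔛.OshProj h 0).hom.naturality g.op)
    simp only [CommRingCat.hom_comp, RingHom.comp_apply] at e
    refine RingHom.mem_ker.2 (e.trans ?_)
    rw [show ((𝔛.OshProj h 0).hom.app (op U)).hom f = 0 from hf', map_zero]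
  glue {U f} S hS hf := by
    refine RingHom.mem_ker.2 ?_
    refine TopCat.Presheaf.IsSheaf.section_ext (𝔛.levelObj h 0).property fun x hx => ?_
    obtain ⟨V, g, hg, hxV⟩ := hS x hx
    refine ⟨V, leOfHom g, hxV, ?_⟩
    have e := congrArg (fun φ => φ.hom f) ((𝔛.OshProj h 0).hom.naturality g.op)
    simp only [CommRingCat.hom_comp, RingHom.comp_apply] at e
    exact (e.symm.trans (RingHom.mem_ker.1 (hf g hg))).trans (map_zero _).symm

theorem mem_idealJ (h : 𝔛.IsFormal) (U : (𝔛.X 0).Opens) (a : O 𝔛 h U) :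
    a ∈ (idealJ h).ideal U ↔ pR 𝔛 h 0 U a = 0 := RingHom.mem_ker

variable (hX : 𝔛.IsLocNoethFormal)

theorem isFiniteType_idealJ : (idealJ hX.1).IsFiniteType := fun U₀ => by
  refine ⟨Sieve.ofArrows (fun V : {V : (𝔛.X 0).Opens // IsAffineOpen V ∧ V ≤ U₀} => V.1) fun V => homOfLE V.2.2,
    fun x hx => ?_, ?_⟩
  · obtain ⟨V, hV, hxV, hle⟩ := exists_affine_nhd (𝔛 := 𝔛) hx
    exact ⟨V, homOfLE hle, (Sieve.mem_ofArrows_iff _ _ _).2 ⟨⟨V, hV, hle⟩, 𝟙 _, Subsingleton.elim _ _⟩, hxV⟩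
  rintro V g hg
  obtain ⟨⟨U, hU, _⟩, k, -⟩ := (Sieve.mem_ofArrows_iff _ _ _).1 hg
  obtain ⟨r, t, ht⟩ := exists_gens hX hU
  have hle : V ≤ U := leOfHom k
  refine ⟨r, fun i => resO 𝔛 hX.1 hle (t i), fun i W => ?_, fun I' hI' W a ha => ?_⟩
  · show (𝔛.Osh hX.1).obj.map W.hom.op (resO 𝔛 hX.1 hle (t i)) ∈ (idealJ hX.1).ideal W.left
    exact (idealJ hX.1).map_mem W.hom ((idealJ hX.1).map_mem (homOfLE hle) (show t i ∈ J 𝔛 hX.1 U by rw [← ht]; exact Ideal.subset_span ⟨i, rfl⟩))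
  · let S : Sieve W := Sieve.generate fun (Z : Over V) (_ : Z ⟶ W) => IsAffineOpen Z.left
    refine I'.glue S ((GrothendieckTopology.mem_over_iff _ _).2 fun x hx => ?_) fun Z l hl => ?_
    · obtain ⟨Z, hZ, hxZ, hle'⟩ := exists_affine_nhd (𝔛 := 𝔛) hx
      refine ⟨Z, homOfLE hle', (Sieve.overEquiv_iff S _).2 ?_, hxZ⟩
      exact ⟨_, 𝟙 _, _, hZ, Category.id_comp _⟩
    · obtain ⟨Z', p, q, hZ', rfl⟩ := hl
      rw [op_comp, Functor.map_comp, CommRingCat.comp_apply]
      refine I'.map_mem p ?_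
      have hsub : Z'.left ≤ U := (leOfHom Z'.hom).trans hle
      have h1 : (𝔛.Osh hX.1).obj.map q.left.op a ∈ J 𝔛 hX.1 Z'.left :=
        (idealJ hX.1).map_mem q.left ha
      rw [← span_res hX hU hZ' hsub ht] at h1
      refine (Ideal.span_le (I := I'.ideal Z')).2 ?_ h1
      rintro _ ⟨i, rfl⟩
      have h2 := hI' i Z'
      change (𝔛.Osh hX.1).obj.map Z'.hom.op (resO 𝔛 hX.1 hle (t i)) ∈ I'.ideal Z' at h2
      change resO 𝔛 hX.1 hsub (t i) ∈ I'.ideal Z'
      rwa [show resO 𝔛 hX.1 hsub (t i) = resO 𝔛 hX.1 (leOfHom Z'.hom) (resO 𝔛 hX.1 hle (t i)) from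
        (resO_resO ..).symm]

theorem isTorsF_of_shortExact (S : ShortComplex (FSch.ModF 𝔛 hX.1)) (hS : S.ShortExact)
    (h₁ : _root_.FTors.IsTorsF 𝔛 hX.1 S.X₁) (h₃ : _root_.FTors.IsTorsF 𝔛 hX.1 S.X₃) :
    _root_.FTors.IsTorsF 𝔛 hX.1 S.X₂ := by
  haveI := hS.mono_f
  refine isTorsF_mid hX S.f S.g (fun U b hb => ?_) h₁ h₃
  obtain ⟨k, hk⟩ := (exists_kernel_sect S.g (op U)).1 b hb
  refine ⟨apF (hS.exact.lift (kernel.ι S.g) (kernel.condition _)) U k, Eq.trans ?_ hk⟩
  exact apF_congr hX (hS.exact.lift_f (kernel.ι S.g) (kernel.condition _)) U k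

/-- Modules on an open on which local generators of the ideal of definition are nilpotent extend by zero to torsion
modules. -/
theorem isTorsF_extZero (V : (𝔛.X 0).Opens) {r : ℕ} (a : Fin r → O 𝔛 hX.1 V)
    (ha : ((idealJ hX.1).over V).IsGenBy fun i => DerComp.GSec.ofSect (𝔛.Osh hX.1) V (a i))
    (M : ModSite.Mod ((𝔛.Osh hX.1).over V)) (k : Fin r → ℕ)
    (hk : ∀ i, DerComp.GSec.ofSect (𝔛.Osh hX.1) V (a i) ^ k i • 𝟙 M = 0) :
    _root_.FTors.IsTorsF 𝔛 hX.1 ((ModSite.extZero (𝔛.Osh hX.1) V).obj M) := by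
  refine Groth.L04.DerComp.of_pow_smul_eq_zero
    (fun N => _root_.FTors.IsTorsF 𝔛 hX.1 ((ModSite.extZero (𝔛.Osh hX.1) V).obj N))
    (fun S hS h₁ h₃ => isTorsF_of_shortExact hX _ (hS.map_of_exact (ModSite.extZero (𝔛.Osh hX.1) V)) h₁ h₃)
    (fun i => DerComp.GSec.ofSect (𝔛.Osh hX.1) V (a i)) (fun N hN => ?_) M k hk
  intro U s
  refine _root_.FTors.IsTorsSect.of_killedBy (n := 0) fun W g b hb => ?_
  exact Groth.L04.DerComp.smul_extZero_eq_zero V a ha N hN W b hb _

open Groth.L04.DerComp in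
/-- Iterated cones on local generators, extended by zero, have torsion cohomology. -/
theorem isDTorsF_extD_kos (V : (𝔛.X 0).Opens) {r : ℕ} (a : Fin r → O 𝔛 hX.1 V)
    (ha : ((idealJ hX.1).over V).IsGenBy fun i => DerComp.GSec.ofSect (𝔛.Osh hX.1) V (a i))
    (X : DerivedCategory (ModSite.Mod ((𝔛.Osh hX.1).over V))) (l : List (DerComp.GSec ((𝔛.Osh hX.1).over V)))
    (hl : ∀ i, DerComp.GSec.ofSect (𝔛.Osh hX.1) V (a i) ∈ l) :
    _root_.FTors.IsDTorsF 𝔛 hX.1 ((extD (𝔛.Osh hX.1) V).obj (kos l X)) := fun n => by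
  obtain ⟨K, ⟨e⟩⟩ : ∃ K : CochainComplex (ModSite.Mod ((𝔛.Osh hX.1).over V)) ℤ,
      Nonempty (DerivedCategory.Q.obj K ≅ kos l X) := ⟨_, ⟨DerivedCategory.Q.objObjPreimageIso _⟩⟩
  have h1 : _root_.FTors.IsTorsF 𝔛 hX.1 ((ModSite.extZero (𝔛.Osh hX.1) V).obj (K.homology n)) := by
    choose k hk using fun i => nil_kos l X (hl i)
    refine isTorsF_extZero hX V a ha _ k fun i => ?_
    have h2 : (DerivedCategory.homologyFunctor _ n).map
        (DerComp.GSec.ofSect (𝔛.Osh hX.1) V (a i) ^ k i • 𝟙 (kos l X)) = 0 := by rw [hk i, Functor.map_zero]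
    rw [homology_gsec_smul] at h2
    let c := ((DerivedCategory.homologyFunctor (ModSite.Mod ((𝔛.Osh hX.1).over V)) n).mapIso e.symm ≪≫
      (DerivedCategory.homologyFunctorFactors _ n).app K)
    have h3 : DerComp.GSec.ofSect (𝔛.Osh hX.1) V (a i) ^ k i • 𝟙 ((DerivedCategory.homologyFunctor _ n).obj (kos l X)) = 0 :=
      (DerComp.smul_def _ _).trans ((Category.comp_id _).trans h2)
    have h4 := congrArg (fun φ => c.inv ≫ φ ≫ c.hom) h3
    simp only [Linear.smul_comp, Linear.comp_smul, Category.id_comp, zero_comp, comp_zero, c.inv_hom_id] at h4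
    exact h4
  refine isTorsF_of_iso hX ?_ h1
  exact ((K.sc n).mapHomologyIso (ModSite.extZero (𝔛.Osh hX.1) V)).symm ≪≫
    ((DerivedCategory.homologyFunctorFactors _ n).app
      (((ModSite.extZero (𝔛.Osh hX.1) V).mapHomologicalComplex (ComplexShape.up ℤ)).obj K)).symm ≪≫
    (DerivedCategory.homologyFunctor _ n).mapIso
      ((((ModSite.extZero (𝔛.Osh hX.1) V).mapDerivedCategoryFactors).app K).symm ≪≫
        (extD (𝔛.Osh hX.1) V).mapIso e)

variable [_root_.FTors.HasRgammaT 𝔛 hX.1]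

open Groth.L04.DerComp in
/-- The cone of `RΓ'E → E` is killed by completion along the ideal of definition. -/
theorem killed_cone_ε (E : DerivedCategory (FSch.ModF 𝔛 hX.1)) {W : DerivedCategory (FSch.ModF 𝔛 hX.1)}
    (g : E ⟶ W) (δ : W ⟶ ((_root_.FTors.RgammaT 𝔛 hX.1).obj E)⟦(1 : ℤ)⟧)
    (hT : Triangle.mk ((_root_.FTors.RgammaTε 𝔛 hX.1).app E) g δ ∈ distTriang _) : Killed (idealJ hX.1) W := by
  haveI : ∀ m : ℤ, (shiftFunctor (DerivedCategory (FSch.ModF 𝔛 hX.1)) m).Additive := fun _ => inferInstance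
  haveI := hasDerCompletion (𝔛.Osh hX.1) (idealJ hX.1)
  refine killed_of_orth_kos (isFiniteType_idealJ hX) W fun V r a ha => ?_
  rw [orth_kos_iff, ← orth_adj_iff (extRestrAdjD (𝔛.Osh hX.1) V)]
  let l := (secList (𝔛.Osh hX.1) V a).reverse
  have hP : _root_.FTors.IsDTorsF 𝔛 hX.1 ((extD (𝔛.Osh hX.1) V).obj (kos l (unitD (𝔛.Osh hX.1) V))) :=
    isDTorsF_extD_kos hX V a ha _ l fun i => List.mem_reverse.2 (mem_secList V a i)
  refine (forall_bijective₂_iff (T := DerivedCategory (FSch.ModF 𝔛 hX.1)) (Triangle.mk ((_root_.FTors.RgammaTε 𝔛 hX.1).app E) g δ) hT _).1 fun n => ?_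
  refine bijective_comp_ε (_root_.FTors.openIdealFam 𝔛 hX.1) (fun e h => isTorsF_of_iso hX e h)
    (isTorsF_homology_gCx hX) (isIso_gι_gCx hX) (isIso_gCx_gι hX) (fun R _ hR => quasiIso_gι hX R hR) _ E ?_
  intro i
  exact isTorsF_of_iso hX
    (Groth.L10.hShiftIso (A := FSch.ModF 𝔛 hX.1) _ n i (n + i) rfl).symm (hP (n + i))

end Groth.L04.FTorsD
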