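import Groth.Agent.L10.SheafModGroth
import Mathlib.Algebra.Category.ModuleCat.Presheaf.Submodule

/-!
# Solving linear equations in injective sheaves of modules
-/

set_option autoImplicit false
set_option backward.isDefEq.respectTransparency false
set_option backward.isDefEq.respectTransparency.types false

universe u

open CategoryTheory CategoryTheory.Limits Opposite

noncomputable section

namespace Groth.L04.FTorsD

variable {C : Type u} [SmallCategory C] {J : GrothendieckTopology C} {R : Sheaf J RingCat.{u}}

section Pre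

variable {R₀ : Cᵒᵖ ⥤ RingCat.{u}} (N : PresheafOfModules.{u} R₀) {V : C} {n : ℕ}
  (x : Fin n → N.obj (op V))

/-- Combinations of the restrictions to `W` of sections over `V`. -/
def combMap (W : Cᵒᵖ) : (Fin n × (W.unop ⟶ V) →₀ R₀.obj W) →ₗ[R₀.obj W] N.obj W :=
  Finsupp.linearCombination (R₀.obj W) (fun p : Fin n × (W.unop ⟶ V) => (N.map p.2.op (x p.1) : N.obj W))

theorem combMap_single (W : Cᵒᵖ) (i : Fin n) (g : W.unop ⟶ V) (c : R₀.obj W) :
    combMap N x W (Finsupp.single (i, g) c) = c • (N.map g.op (x i) : N.obj W) := by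
  simp [combMap]

theorem map_combMap {W W' : Cᵒᵖ} (f : W ⟶ W') (e : Fin n × (W.unop ⟶ V) →₀ R₀.obj W) :
    N.map f (combMap N x W e) = combMap N x W'
      ((e.mapRange (R₀.map f).hom (map_zero _)).mapDomain fun p => (p.1, f.unop ≫ p.2)) := by
  induction e using Finsupp.induction_linear with
  | zero => simp
  | add a b ha hb =>
    rw [map_add (combMap N x W), map_add, ha, hb, Finsupp.mapRange_add (map_add _), Finsupp.mapDomain_add,
      map_add (combMap N x W')]
  | single p c =>
    obtain ⟨i, g⟩ := p
    rw [Finsupp.mapRange_single, Finsupp.mapDomain_single, combMap_single, combMap_single]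
    refine (N.map_smul f c _).trans ?_
    congr 1
    exact (N.map_comp_apply g.op f (x i)).symm

/-- The subpresheaf spanned by the restrictions of the sections. -/
def combSub : N.Submodule where
  obj W := LinearMap.range (combMap N x W)
  map {W W'} f := by
    rintro _ ⟨e, rfl⟩
    exact ⟨_, (map_combMap N x f e).symm⟩

theorem map_id_apply {X : Cᵒᵖ} (a : N.obj X) : N.map (𝟙 X) a = a := by
  rw [N.map_id]; rfl

variable (M : PresheafOfModules.{u} R₀) (m : Fin n → M.obj (op V))
  (hker : ∀ (W : Cᵒᵖ) (e : Fin n × (W.unop ⟶ V) →₀ R₀.obj W), combMap N x W e = 0 → combMap M m W e = 0)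

include hker in
theorem ker_le (W : Cᵒᵖ) : LinearMap.ker (combMap N x W) ≤ LinearMap.ker (combMap M m W) :=
  fun e he => hker W e he

/-- The value of `combDesc`. -/
def combVal (W : Cᵒᵖ) : LinearMap.range (combMap N x W) →ₗ[R₀.obj W] M.obj W :=
  (LinearMap.ker (combMap N x W)).liftQ (combMap M m W) (ker_le N x M m hker W) ∘ₗ
    (combMap N x W).quotKerEquivRange.symm.toLinearMap

theorem combVal_apply (W : Cᵒᵖ) (e : Fin n × (W.unop ⟶ V) →₀ R₀.obj W) :
    combVal N x M m hker W ⟨combMap N x W e, e, rfl⟩ = combMap M m W e := by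
  show (LinearMap.ker (combMap N x W)).liftQ _ (ker_le N x M m hker W) ((combMap N x W).quotKerEquivRange.symm _) = _
  rw [LinearMap.quotKerEquivRange_symm_apply_image _ _ ⟨e, rfl⟩]
  rfl

/-- The map on the spanned subpresheaf sending the given sections to the prescribed ones. -/
def combDesc : (combSub N x).toPresheafOfModules ⟶ M :=
  PresheafOfModules.homMk
    { app := fun W => AddCommGrpCat.ofHom (combVal N x M m hker W).toAddMonoidHom
      naturality := fun W W' f => by
        ext s
        obtain ⟨_, e, rfl⟩ := s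
        change combVal N x M m hker W' ⟨N.map f (combMap N x W e), _⟩ =
          M.map f (combVal N x M m hker W ⟨combMap N x W e, e, rfl⟩)
        rw [combVal_apply]
        refine ((congrArg (combVal N x M m hker W') (Subtype.ext (map_combMap N x f e))).trans
          (combVal_apply N x M m hker W' _)).trans (map_combMap M m f e).symm }
    (fun W r s => (combVal N x M m hker W).map_smul r s)

theorem combDesc_app (W : Cᵒᵖ) (e : Fin n × (W.unop ⟶ V) →₀ R₀.obj W) :
    ((combDesc N x M m hker).app W).hom ⟨combMap N x W e, e, rfl⟩ = combMap M m W e :=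
  combVal_apply N x M m hker W e

end Pre

/-- A linear system `f i • z = m i` over an object is solvable in an injective sheaf of modules as soon as
every relation among the `f i` restricted along an arrow is a relation among the `m i`. -/
theorem exists_smul_eq_of_injective (M : SheafOfModules.{u} R) [Injective M] {V : C} {n : ℕ}
    (f : Fin n → R.obj.obj (op V)) (m : Fin n → M.val.obj (op V))
    (hrel : ∀ (W : Cᵒᵖ) (e : Fin n × (W.unop ⟶ V) →₀ R.obj.obj W),
      combMap ((PresheafOfModules.free R.obj).obj (yoneda.obj V))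
        (fun i => f i • ModuleCat.freeMk (𝟙 V)) W e = 0 → combMap M.val m W e = 0) :
    ∃ z : M.val.obj (op V), ∀ i, f i • z = m i := by
  let F : PresheafOfModules.{u} R.obj := (PresheafOfModules.free R.obj).obj (yoneda.obj V)
  let x : Fin n → F.obj (op V) := fun i => f i • ModuleCat.freeMk (𝟙 V)
  let adj := PresheafOfModules.sheafificationAdjunction (R := R) (𝟙 R.obj)
  let θ : (combSub F x).toPresheafOfModules ⟶
      (SheafOfModules.forget R ⋙ PresheafOfModules.restrictScalars (𝟙 R.obj)).obj M :=
    combDesc F x M.val m hrel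
  haveI : Mono ((PresheafOfModules.sheafification (R := R) (𝟙 R.obj)).map (combSub F x).ι) :=
    Functor.map_mono _ _
  let ζ := Injective.factorThru ((adj.homEquiv _ _).symm θ)
    ((PresheafOfModules.sheafification (R := R) (𝟙 R.obj)).map (combSub F x).ι)
  let ζ' : F ⟶ M.val := adj.homEquiv F M ζ
  have hζ : (combSub F x).ι ≫ ζ' = θ := by
    show (combSub F x).ι ≫ adj.homEquiv _ _ ζ = θ
    rw [← adj.homEquiv_naturality_left, Injective.comp_factorThru, Equiv.apply_symm_apply]
  refine ⟨(ζ'.app (op V)).hom (ModuleCat.freeMk (𝟙 V)), fun i => ?_⟩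
  have h1 := congrArg (fun φ => (φ.app (op V)).hom
    ⟨combMap F x (op V) (Finsupp.single (i, 𝟙 V) 1), Finsupp.single (i, 𝟙 V) 1, rfl⟩) hζ
  have h2 : combMap F x (op V) (Finsupp.single (i, 𝟙 V) 1) = x i := by
    rw [combMap_single]
    refine (one_smul _ _).trans ?_
    exact map_id_apply F _
  refine (((ζ'.app (op V)).hom.map_smul (f i) _).symm.trans ?_).trans ((h1.trans
    (combDesc_app F x M.val m hrel (op V) (Finsupp.single (i, 𝟙 V) 1))).trans ?_)
  · show _ = (ζ'.app (op V)).hom (combMap F x (op V) (Finsupp.single (i, 𝟙 V) 1))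
    rw [h2]
  · rw [combMap_single]
    refine (one_smul _ _).trans ?_
    exact map_id_apply M.val _

end Groth.L04.FTorsD
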