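import Groth.Agent.L28.FTors.Main
import Groth.Agent.L17.FSheaf.RpushGen
import Groth.Agent.L17.FSheaf.CohSect
import Groth.Agent.L16.SchSupport

/-!
# Modules on the levels as torsion modules on the formal scheme
-/

set_option autoImplicit false
set_option linter.style.haveILetI false
set_option linter.unusedSectionVars false
set_option backward.isDefEq.respectTransparency false
set_option backward.isDefEq.respectTransparency.types false

universe u

open CategoryTheory CategoryTheory.Limits AlgebraicGeometry TopologicalSpace Opposite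

noncomputable section

namespace Groth.L04.FTorsD

open Groth.L17.FSheaf Groth.L09.IndCoh Groth.L28.QCT

variable {𝔛 : FSch.Sys.{u}} (hX : 𝔛.IsLocNoethFormal) (k : ℕ) (G : (𝔛.X k).Modules)

/-- The direct image from a level. -/
abbrev lvPush : FSch.ModF 𝔛 hX.1 := (FSch.levelMor 𝔛 hX.1 k).push.obj G

theorem killed_lvPush {V : (𝔛.X 0).Opens} (hV : IsAffineOpen V) (s : SF 𝔛 hX.1 (lvPush hX k G) V) :
    Killed (lvPush hX k G) k s := by
  refine killed_of_affine hX hV fun a ha => ?_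
  rw [← (O_spec 𝔛 hX hV).2.2 k, RingHom.mem_ker] at ha
  show pR 𝔛 hX.1 k V a • (show Γ(G, 𝔛.lvU hX.1 k V) from s) = 0
  rw [ha, zero_smul]

theorem isTorsF_lvPush : _root_.FTors.IsTorsF 𝔛 hX.1 (lvPush hX k G) := fun W s => tors_iff.2 fun x hx => by
  obtain ⟨V, hV, hxV, hle⟩ := Opens.isBasis_iff_nbhd.1 (𝔛.X 0).isBasis_affineOpens hx
  exact ⟨V, hle, hxV, k, killed_lvPush hX k G hV _⟩

theorem genOn_lvPush [Coh.IsQCoh G] {U : (𝔛.X 0).Opens} (hU : IsAffineOpen U) : GenOn (lvPush hX k G) U :=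
  fun W hW s x hx => by
    obtain ⟨V, hV, hxV, hle⟩ := Opens.isBasis_iff_nbhd.1 (𝔛.X 0).isBasis_affineOpens hx
    exact ⟨V, hle, hxV, mem_span_res hX (Iso.refl (lvPush hX k G)) hU hV (hle.trans hW) _⟩

theorem qr_lvPush [Coh.IsQCoh G] : QR (lvPush hX k G) := fun U n y x hx => by
  obtain ⟨U₁, hU₁, hxU₁, hle⟩ := Opens.isBasis_iff_nbhd.1 (𝔛.X 0).isBasis_affineOpens hx
  refine ⟨U₁, hle, hU₁, hxU₁, fun W hW c hc z hz => ?_⟩
  obtain ⟨V, hV, hzV, hVW⟩ := Opens.isBasis_iff_nbhd.1 (𝔛.X 0).isBasis_affineOpens hz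
  refine ⟨V, hVW, hzV, ?_⟩
  let g := fun i => rsF (lvPush hX k G) hle (y i)
  have hrel : ∑ i, resO 𝔛 hX.1 hVW (c i) • rsF (lvPush hX k G) (hVW.trans hW) (g i) = 0 :=
    (rsF_comb (lvPush hX k G) hW hVW c g).symm.trans ((congrArg (rsF (lvPush hX k G) hVW) hc).trans (res_zero _ _))
  refine SetLike.le_def.1 (sup_le ?_ ?_) (mem_span_rel hX (Iso.refl (lvPush hX k G)) hU₁ hV (hVW.trans hW) g
    (fun i => resO 𝔛 hX.1 hVW (c i)) hrel)
  · exact Submodule.span_mono (Set.image_mono fun b hb => hb)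
  refine Submodule.smul_le.2 fun a ha v _ => ?_
  rw [J_eq_map 𝔛 hX hU₁ hV (hVW.trans hW), ← Ideal.map_pow] at ha
  induction ha using Submodule.span_induction with
  | mem a ha =>
    classical
    obtain ⟨b, hb, rfl⟩ := ha
    rw [← Finset.univ_sum_single v, Finset.smul_sum]
    refine Submodule.sum_mem _ fun i _ => ?_
    rw [show resO 𝔛 hX.1 (hVW.trans hW) b • Pi.single (M := fun _ => O 𝔛 hX.1 V) i (v i) =
      v i • fun j => resO 𝔛 hX.1 (hVW.trans hW) (Pi.single (M := fun _ => O 𝔛 hX.1 U₁) i b j) from by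
        funext j
        rcases eq_or_ne j i with rfl | hne
        · simp [mul_comm]
        · simp [hne]]
    refine Submodule.smul_mem _ _ (Submodule.subset_span ⟨_, mem_Rels.2 ?_, rfl⟩)
    rw [Finset.sum_eq_single i (fun j _ hj => by rw [Pi.single_eq_of_ne hj, zero_smul])
      (fun h => absurd (Finset.mem_univ i) h), Pi.single_eq_same]
    exact smul_eq_zero_of_mem hX hU₁ (killed_lvPush hX k G hU₁ _) hb
  | zero => rw [zero_smul]; exact zero_mem _
  | add a b _ _ ha hb => rw [add_smul]; exact add_mem ha hb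
  | smul r a _ ha => rw [smul_eq_mul, mul_smul]; exact Submodule.smul_mem _ _ ha

/-- Direct images of quasi-coherent modules of the levels are quasi-coherent torsion. -/
theorem isQCT_lvPush [Coh.IsQCoh G] : _root_.FTors.IsQCT 𝔛 hX.1 (lvPush hX k G) :=
  (isQCT_iff hX).2 ⟨isTorsF_lvPush hX k G, qr_lvPush hX k G, fun x => by
    obtain ⟨U, hU, hxU, -⟩ := Opens.isBasis_iff_nbhd.1 (𝔛.X 0).isBasis_affineOpens (Opens.mem_top x)
    exact ⟨U, hU, hxU, genOn_lvPush hX k G hU⟩⟩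

/-- Direct images of coherent modules of the levels are coherent. -/
theorem isCohF_lvPush (hG : Coh.IsCoh G) : FSch.IsCohF 𝔛 hX.1 (lvPush hX k G) := by
  haveI : Coh.IsQCoh G := hG.1
  refine isCohF_of_qr_finGen hX (qr_lvPush hX k G) fun x => ?_
  obtain ⟨U, hU, hxU, -⟩ := Opens.isBasis_iff_nbhd.1 (𝔛.X 0).isBasis_affineOpens (Opens.mem_top x)
  haveI := Groth.L16.SchSupport.finite_sections G hG ⟨_, isAffineOpen_lvU 𝔛 hX.1 hU k⟩
  obtain ⟨n, g, hg⟩ := Module.Finite.exists_fin (R := Γ(𝔛.X k, 𝔛.lvU hX.1 k U)) (M := Γ(G, 𝔛.lvU hX.1 k U))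
  refine ⟨U, hxU, n, g, fun W hW y hy z => ?_⟩
  obtain ⟨V, hV, hyV, hle⟩ := Opens.isBasis_iff_nbhd.1 (𝔛.X 0).isBasis_affineOpens hy
  refine ⟨V, hle, hyV, ?_⟩
  have h1 := mem_span_res hX (Iso.refl (lvPush hX k G)) hU hV (hle.trans hW) (rsF (lvPush hX k G) hle z)
  obtain ⟨c, hc⟩ := (Submodule.mem_span_range_iff_exists_fun _).1
    (Submodule.span_le.2 (show Set.range (rsF (lvPush hX k G) (hle.trans hW)) ⊆
      ↑(Submodule.span (O 𝔛 hX.1 V) (Set.range fun i =>
        rsF (lvPush hX k G) (hle.trans hW) (show SF 𝔛 hX.1 (lvPush hX k G) U from g i))) by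
      rintro _ ⟨t, rfl⟩
      obtain ⟨d, hd⟩ := (Submodule.mem_span_range_iff_exists_fun _).1
        (hg ▸ Submodule.mem_top : (show Γ(G, 𝔛.lvU hX.1 k U) from t) ∈ _)
      choose D hD using fun i => pR_surjective 𝔛 hX.1 hU k (d i)
      have ht : t = ∑ i, D i • (show SF 𝔛 hX.1 (lvPush hX k G) U from g i) := by
        refine hd.symm.trans (Finset.sum_congr rfl fun i _ => ?_)
        show _ = pR 𝔛 hX.1 k U (D i) • g i
        rw [hD]
      rw [ht, Groth.L09.IndCoh.rsF_sum hX]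
      exact Submodule.sum_mem _ fun i _ => by
        rw [rsF_smul hX]
        exact Submodule.smul_mem _ _ (Submodule.subset_span ⟨i, rfl⟩)) h1)
  exact ⟨c, hc.symm⟩

variable {k G}

/-- A coherent module killed by an open ideal is the direct image of its inverse image to the level. -/
theorem isIso_unit_of_killed {M : FSch.ModF 𝔛 hX.1} (hM : FSch.IsCohF 𝔛 hX.1 M) (k : ℕ)
    (hall : ∀ (W : (𝔛.X 0).Opens) (s : SF 𝔛 hX.1 M W), Killed M k s) :
    IsIso ((FSch.levelMor 𝔛 hX.1 k).adj.unit.app M) := by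
  let η := (FSch.levelMor 𝔛 hX.1 k).adj.unit.app M
  haveI : Epi η := epi_of_surjective_basis (B := {V | IsAffineOpen (V : (𝔛.X 0).Opens)})
    (𝔛.X 0).isBasis_affineOpens η fun V hV => ((SF_spec 𝔛 hX hM hV).2 k).1
  haveI : Mono η := by
    refine Preadditive.mono_of_kernel_zero (hom_ext_basis (B := {V | IsAffineOpen (V : (𝔛.X 0).Opens)})
      (𝔛.X 0).isBasis_affineOpens _ _ fun W hW z => ?_)
    let y : SF 𝔛 hX.1 M W := ((kernel.ι η).val.app (op W)).hom z
    have hy : (η.val.app (op W)).hom y = 0 :=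
      LinearMap.congr_fun (congrArg (fun t => ((t : kernel η ⟶ _).val.app (op W)).hom) (kernel.condition η)) z
    have h1 := (((SF_spec 𝔛 hX hM hW).2 k).2 y).1 hy
    show y = 0
    clear_value y
    clear hy
    induction h1 using Submodule.smul_induction_on' with
    | smul a ha w _ => exact smul_eq_zero_of_mem hX hW (hall W w) ha
    | add a _ b _ ha hb => rw [ha, hb, add_zero]
  exact isIso_of_mono_of_epi η

/-- A coherent torsion module on a compact formal scheme is killed by one open ideal. -/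
theorem exists_killedAll [CompactSpace (𝔛.X 0)] {M : FSch.ModF 𝔛 hX.1} (hM : FSch.IsCohF 𝔛 hX.1 M)
    (hT : _root_.FTors.IsTorsF 𝔛 hX.1 M) :
    ∃ k, ∀ (W : (𝔛.X 0).Opens) (s : SF 𝔛 hX.1 M W), Killed M k s := by
  have key : ∀ x : 𝔛.X 0, ∃ U : (𝔛.X 0).Opens, x ∈ U ∧ ∃ k, ∀ (W : (𝔛.X 0).Opens), W ≤ U →
      ∀ s : SF 𝔛 hX.1 M W, Killed M k s := fun x => by
    obtain ⟨U, hU, hxU, -⟩ := Opens.isBasis_iff_nbhd.1 (𝔛.X 0).isBasis_affineOpens (Opens.mem_top x)
    obtain ⟨n, g, hg⟩ := Groth.L09.IndCoh.exists_gens hX hM hU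
    obtain ⟨k, hk⟩ := exists_killed_family hU.isCompact g fun i => hT _ (g i)
    refine ⟨U, hxU, k, fun W hW s => killed_local fun y hy => ?_⟩
    obtain ⟨V, hV, hyV, hle⟩ := Opens.isBasis_iff_nbhd.1 (𝔛.X 0).isBasis_affineOpens hy
    obtain ⟨c, hc⟩ := hg hV (hle.trans hW) (rsF M hle s)
    refine ⟨V, hle, hyV, ?_⟩
    rw [hc]
    exact killed_sum _ c _ fun i _ => (hk i).rs _
  choose U hxU k hk using key
  obtain ⟨t, ht⟩ := isCompact_univ.elim_finite_subcover (fun x : 𝔛.X 0 => (U x : Set (𝔛.X 0)))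
    (fun x => (U x).2) fun x _ => Set.mem_iUnion.2 ⟨x, hxU x⟩
  refine ⟨t.sup k, ?_⟩
  have hall : ∀ (W : (𝔛.X 0).Opens) (s : SF 𝔛 hX.1 M W), Killed M (t.sup k) s := fun W s =>
    killed_local fun y hy => by
      obtain ⟨z, hz, hyz⟩ := Set.mem_iUnion₂.1 (ht (Set.mem_univ y))
      exact ⟨W ⊓ U z, inf_le_left, ⟨hy, hyz⟩,
        _root_.FTors.KilledBy.mono (Finset.le_sup hz) (hk z _ inf_le_right _)⟩
  exact hall

/-- A coherent torsion module on a compact formal scheme comes from a level. -/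
theorem exists_level [CompactSpace (𝔛.X 0)] {M : FSch.ModF 𝔛 hX.1} (hM : FSch.IsCohF 𝔛 hX.1 M)
    (hT : _root_.FTors.IsTorsF 𝔛 hX.1 M) : ∃ k, IsIso ((FSch.levelMor 𝔛 hX.1 k).adj.unit.app M) := by
  obtain ⟨k, hk⟩ := exists_killedAll hX hM hT
  exact ⟨k, isIso_unit_of_killed hX hM k hk⟩

end Groth.L04.FTorsD
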