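import Groth.Agent.L04.FTorsD.Level
import Groth.Agent.L28.FTors.PushCoh
import Groth.Agent.L17.IndRpush.IndCoh
import Groth.Agent.L17.PushQCoh
import Groth.Agent.L17.ProperCoh
import Mathlib.Algebra.Homology.DerivedCategory.SingleTriangle
import Mathlib.CategoryTheory.Filtered.Connected

/-!
# Higher direct images of quasi-coherent torsion modules on formal schemes
-/

set_option autoImplicit false
set_option linter.style.haveILetI false
set_option linter.unusedSectionVars false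
set_option backward.defeqAttrib.useBackward true
set_option backward.isDefEq.respectTransparency false
set_option backward.isDefEq.respectTransparency.types false

universe u v w w' u' v'

open CategoryTheory CategoryTheory.Limits AlgebraicGeometry TopologicalSpace Opposite DerivedCategory

noncomputable section

namespace Groth.L04.FTorsD

section Abstract

variable {A : Type u} [Category.{v} A] [Abelian A] [HasDerivedCategory.{w} A]
  [Groth.L10.KInjDerived.EnoughKInjectives A] [HasInjectiveResolutions A]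
  {B : Type u'} [Category.{v'} B] [Abelian B] [HasDerivedCategory.{w'} B] {F : A ⥤ B} [F.Additive]
  {RF : DerivedCategory A ⥤ DerivedCategory B}
  (α : F.mapHomotopyCategory (ComplexShape.up ℤ) ⋙ Qh ⟶ Qh ⋙ RF)
  [RF.IsRightDerivedFunctor α (HomotopyCategory.quasiIso A (ComplexShape.up ℤ))]
  (P' : ObjectProperty B) [WSerre.IsWeakSerre P']

include α in
theorem prop_single (M : A) (hM : ∀ p : ℕ, P' ((F.rightDerived p).obj M)) (j : ℤ) :
    P' ((homologyFunctor B j).obj (RF.obj ((singleFunctor A 0).obj M))) := by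
  obtain ⟨h0, hp⟩ := Groth.L10.RDerTri.isGE_single α M
  by_cases hj : j < 0
  · obtain ⟨Z, hZ, hPZ⟩ := P'.exists_prop_of_containsZero
    exact P'.prop_of_iso (hZ.iso (@DerivedCategory.isZero_of_isGE _ _ _ _ _ 0 j hj h0)) hPZ
  · obtain ⟨q, rfl⟩ : ∃ q : ℕ, j = q := ⟨j.toNat, by omega⟩
    obtain ⟨e⟩ := hp q
    exact P'.prop_of_iso e.symm (hM q)

include α in
/-- Conditions on higher derived functors pass to extensions. -/
theorem prop_rightDerived_mid {S : ShortComplex A} (hS : S.ShortExact)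
    (h₁ : ∀ p : ℕ, P' ((F.rightDerived p).obj S.X₁)) (h₃ : ∀ p : ℕ, P' ((F.rightDerived p).obj S.X₃)) (p : ℕ) :
    P' ((F.rightDerived p).obj S.X₂) := by
  obtain ⟨δ, hδ⟩ := Groth.L10.RDerTri.exists_triangle α hS.singleTriangle hS.singleTriangle_distinguished
  have h := Groth.L10.RDerBound.prop_obj₂ P' _ hδ (p : ℤ) (prop_single α P' _ h₃ _) (prop_single α P' _ h₁ _)
    (prop_single α P' _ h₃ _) (prop_single α P' _ h₁ _)
  obtain ⟨-, hp⟩ := Groth.L10.RDerTri.isGE_single α S.X₂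
  obtain ⟨e⟩ := hp p
  exact P'.prop_of_iso e h

end Abstract

section Site

attribute [local instance] HasDerivedCategory.standard

variable {C D : Type u} [SmallCategory C] [SmallCategory D] {J : GrothendieckTopology C} {K : GrothendieckTopology D}
  {O_C : Sheaf J CommRingCat.{u}} {O_D : Sheaf K CommRingCat.{u}} (φ : ModSite.RMor O_C O_D)

/-- Conditions on higher direct images pass to extensions. -/
theorem prop_Rpush_mid [HasInjectiveResolutions (ModSite.Mod O_C)] (P' : ObjectProperty (ModSite.Mod O_D))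
    [WSerre.IsWeakSerre P'] {S : ShortComplex (ModSite.Mod O_C)} (hS : S.ShortExact)
    (h₁ : ∀ p : ℕ, P' ((φ.Rpush p).obj S.X₁)) (h₃ : ∀ p : ℕ, P' ((φ.Rpush p).obj S.X₃)) (p : ℕ) :
    P' ((φ.Rpush p).obj S.X₂) := by
  obtain ⟨_, _, -⟩ := Groth.L10.ModRDer.insts O_C
  haveI : SiteCmp.HasRpushD φ := Groth.L10.KInjDerived.hasRightDerivedFunctor _
  exact prop_rightDerived_mid
    ((SiteCmp.pushKh φ).totalRightDerivedUnit DerivedCategory.Qh
      (HomotopyCategory.quasiIso (ModSite.Mod O_C) (ComplexShape.up ℤ))) P' hS h₁ h₃ p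

end Site

section Images

variable {C : Type u} [Category.{v} C] [Abelian C] [IsGrothendieckAbelian.{w} C] {Λ : Type w} [SmallCategory Λ]
  [IsFiltered Λ] {D : Λ ⥤ C} (c : Cocone D)

/-- The images of a cocone. -/
def imDiag : Λ ⥤ C where
  obj j := Abelian.image (c.ι.app j)
  map {j k} a := kernel.lift _ (Abelian.image.ι (c.ι.app j)) (by
    rw [← cancel_epi (Abelian.factorThruImage (c.ι.app j)), comp_zero, ← Category.assoc, Abelian.image.fac, ← c.w a,
      Category.assoc, cokernel.condition, comp_zero])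
  map_id j := by
    refine (cancel_mono (Abelian.image.ι (c.ι.app j))).1 ?_
    simp
  map_comp {i j k} a b := by
    refine (cancel_mono (Abelian.image.ι (c.ι.app k))).1 ?_
    simp

/-- The cocone of images. -/
def imCocone : Cocone (imDiag c) where
  pt := c.pt
  ι :=
    { app := fun j => Abelian.image.ι (c.ι.app j)
      naturality := fun j k a => by simp [imDiag] }

/-- A colimit is the colimit of the images. -/
theorem nonempty_isColimit_imCocone (hc : IsColimit c) : Nonempty (IsColimit (imCocone c)) := by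
  haveI : HasColimitsOfShape Λ C := inferInstance
  let t := colimit.desc (imDiag c) (imCocone c)
  haveI : Epi t := by
    refine ⟨fun {Z} a b hab => hc.hom_ext fun j => ?_⟩
    rw [← Abelian.image.fac (c.ι.app j), Category.assoc, Category.assoc]
    refine congrArg (Abelian.factorThruImage (c.ι.app j) ≫ ·) ?_
    have := congrArg (colimit.ι (imDiag c) j ≫ ·) hab
    simpa [t, imCocone] using this
  haveI : CategoryTheory.IsConnected Λ := IsFiltered.isConnected Λ
  haveI : Mono t := by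
    let φ : imDiag c ⟶ (Functor.const Λ).obj c.pt := (imCocone c).ι
    haveI : ∀ j, Mono (φ.app j) := fun j => inferInstanceAs (Mono (Abelian.image.ι (c.ι.app j)))
    haveI : Mono φ := NatTrans.mono_of_mono_app φ
    haveI : PreservesFiniteLimits (colim : (Λ ⥤ C) ⥤ C) := inferInstance
    haveI : Mono (colimMap φ) := inferInstanceAs (Mono (colim.map φ))
    have ht : t = colimMap φ ≫ colimit.desc _ ((Cocone.mk c.pt (𝟙 _) : Cocone ((Functor.const Λ).obj c.pt))) := by
      refine colimit.hom_ext fun j => ?_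
      simp [t, φ]
    haveI : IsIso (colimit.desc _ ((Cocone.mk c.pt (𝟙 _) : Cocone ((Functor.const Λ).obj c.pt)))) :=
      ((colimit.isColimit ((Functor.const Λ).obj c.pt)).coconePointUniqueUpToIso (isColimitConstCocone Λ c.pt)).isIso_hom
    rw [ht]
    exact mono_comp _ _
  haveI : IsIso ((colimit.isColimit (imDiag c)).desc (imCocone c)) := isIso_of_mono_of_epi t
  exact ⟨IsColimit.ofPointIso (colimit.isColimit _)⟩

end Images

open Groth.L17.FSheaf Groth.L09.IndCoh Groth.L28.QCT Groth.L17.IndRpush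

attribute [local instance] HasDerivedCategory.standard

variable {𝔛 𝔜 : FSch.Sys.{u}} (hX : 𝔛.IsLocNoethFormal) (hY : 𝔜.IsLocNoethFormal) (f : 𝔛 ⟶ 𝔜)
  [HasInjectiveResolutions (FSch.ModF 𝔛 hX.1)]

theorem isTorsF_image {N M : FSch.ModF 𝔛 hX.1} (g : N ⟶ M) (hM : _root_.FTors.IsTorsF 𝔛 hX.1 M) :
    _root_.FTors.IsTorsF 𝔛 hX.1 (Abelian.image g) :=
  fun U s => Tors.of_mono (Abelian.image.ι g) (hM U (apF (Abelian.image.ι g) U s))

theorem isCohF_image {N M : FSch.ModF 𝔛 hX.1} (g : N ⟶ M) (hN : FSch.IsCohF 𝔛 hX.1 N) (hM : QR M) :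
    FSch.IsCohF 𝔛 hX.1 (Abelian.image g) := by
  have hK := isCohF_of_mono hX hN (kernel.ι g) (lGen_kernel hX (lGen_coh hX hN) hM g)
  exact isCohF_of_iso hX (isCohF_cokernel 𝔛 hX hK hN (kernel.ι g)) (Abelian.coimageIsoImage g)

/-- A quasi-coherent torsion module is a filtered colimit of coherent torsion modules. -/
theorem exists_colimit_tors [CompactSpace (𝔛.X 0)] {M : FSch.ModF 𝔛 hX.1} (hM : _root_.FTors.IsQCT 𝔛 hX.1 M) :
    ∃ (Λ : Type u) (_ : SmallCategory Λ) (_ : IsFiltered Λ) (D : Λ ⥤ FSch.ModF 𝔛 hX.1) (c : Cocone D)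
      (_ : IsColimit c), c.pt = M ∧ ∀ j, FSch.IsCohF 𝔛 hX.1 (D.obj j) ∧ _root_.FTors.IsTorsF 𝔛 hX.1 (D.obj j) := by
  have hg := good_of_isQCT hX hM
  obtain ⟨Λ, i1, i2, pres, hp⟩ := (ind_iff_good hX).2 hg
  haveI : IsGrothendieckAbelian.{u} (FSch.ModF 𝔛 hX.1) := Groth.L10.shMod_isGrothendieckAbelian _
  obtain ⟨hc⟩ := nonempty_isColimit_imCocone pres.cocone pres.isColimit
  exact ⟨Λ, i1, i2, imDiag pres.cocone, imCocone pres.cocone, hc, rfl, fun j =>
    ⟨isCohF_image hX _ (hp j) hg.1, isTorsF_image hX _ hM.1⟩⟩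

theorem isQCT_of_iso {N M : FSch.ModF 𝔛 hX.1} (e : N ≅ M) (h : _root_.FTors.IsQCT 𝔛 hX.1 N) :
    _root_.FTors.IsQCT 𝔛 hX.1 M :=
  isQCT_of_good hX (fun U s => Tors.of_mono e.inv (h.1 U (apF e.inv U s))) ((good_of_isQCT hX h).of_iso hX e)

variable [CompactSpace (𝔛.X 0)] [CompactSpace (𝔜.X 0)]

include hX hY in
theorem qcqs_app (k : ℕ) : QuasiCompact ((f : FSch.Hom 𝔛 𝔜).app k) ∧ QuasiSeparated ((f : FSch.Hom 𝔛 𝔜).app k) := by
  haveI := hX.2.2 k
  haveI := hY.2.2 k
  haveI : CompactSpace (𝔛.X k) := (𝔛.levelHomeo hX.1 k).compactSpace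
  haveI : AlgebraicGeometry.IsNoetherian (𝔛.X k) := {}
  exact ⟨inferInstance, inferInstance⟩

/-- Higher direct images of coherent torsion modules are quasi-coherent torsion. -/
theorem isQCT_rpush_coh {M : FSch.ModF 𝔛 hX.1} (hM : FSch.IsCohF 𝔛 hX.1 M)
    (hT : _root_.FTors.IsTorsF 𝔛 hX.1 M) (p : ℕ) :
    _root_.FTors.IsQCT 𝔜 hY.1 (((fm hX hY.1 f).Rpush p).obj M) := by
  obtain ⟨k, hk⟩ := exists_level hX hM hT
  let G := LF 𝔛 hX.1 M k
  haveI : Coh.IsQCoh G := (isCoh_canonSys 𝔛 hX M hM k).1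
  haveI := Groth.L17.PushQCoh.hasInjectiveResolutions (𝔛.X k)
  obtain ⟨_, _⟩ := qcqs_app hX hY f k
  obtain ⟨e⟩ := RpushF.nonempty_rpushF_push_iso f hX.1 hY.1 k G p
  haveI := Groth.L17.PushQCoh.isQCoh_Rpush ((f : FSch.Hom 𝔛 𝔜).app k) G p
  have h := isQCT_lvPush hY k ((Coh.Rpush ((f : FSch.Hom 𝔛 𝔜).app k) p).obj G)
  let e' := ((fm hX hY.1 f).Rpush p).mapIso (asIso ((FSch.levelMor 𝔛 hX.1 k).adj.unit.app M))
  exact isQCT_of_iso hY (e' ≪≫ e).symm h

/-- Higher direct images of coherent torsion modules along pseudo-proper morphisms are coherent. -/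
theorem isCohF_rpush_coh [AlgebraicGeometry.IsProper ((f : FSch.Hom 𝔛 𝔜).app 0)] :
    ∀ (k : ℕ) (M : FSch.ModF 𝔛 hX.1), FSch.IsCohF 𝔛 hX.1 M → KilledAll hX M k → ∀ p : ℕ,
      FSch.IsCohF 𝔜 hY.1 (((fm hX hY.1 f).Rpush p).obj M) := by
  have h0 : ∀ (M : FSch.ModF 𝔛 hX.1), FSch.IsCohF 𝔛 hX.1 M → KilledAll hX M 0 → ∀ p : ℕ,
      FSch.IsCohF 𝔜 hY.1 (((fm hX hY.1 f).Rpush p).obj M) := fun M hM hk p => by
    haveI := hY.2.2 0
    haveI := isIso_unit_of_killed hX hM 0 hk
    let G := LF 𝔛 hX.1 M 0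
    haveI := Groth.L17.PushQCoh.hasInjectiveResolutions (𝔛.X 0)
    obtain ⟨e⟩ := RpushF.nonempty_rpushF_push_iso f hX.1 hY.1 0 G p
    have h := isCohF_lvPush hY 0 _ (Groth.L17.ProperCoh.isCoh_Rpush ((f : FSch.Hom 𝔛 𝔜).app 0) G
      (isCoh_canonSys 𝔛 hX M hM 0) p)
    let e' := ((fm hX hY.1 f).Rpush p).mapIso (asIso ((FSch.levelMor 𝔛 hX.1 0).adj.unit.app M))
    exact isCohF_of_iso hY h (e' ≪≫ e).symm
  intro k
  induction k with
  | zero => exact h0
  | succ k ih =>
    intro M hM hk p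
    obtain ⟨K, ι, _, hK, hKk, hQ, hQk, -⟩ := exists_J_sub hX hM hk
    let S := ShortComplex.mk ι (cokernel.π ι) (cokernel.condition ι)
    have hS : S.ShortExact :=
      { exact := ShortComplex.exact_cokernel ι
        mono_f := inferInstanceAs (Mono ι)
        epi_g := inferInstanceAs (Epi (cokernel.π ι)) }
    haveI := weakSerre_coh hY
    exact prop_Rpush_mid (fm hX hY.1 f) (coh hY) hS (fun q => ih K hK hKk q) (fun q => h0 _ hQ hQk q) p

end Groth.L04.FTorsD
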