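import Groth.Agent.L04.FTorsD.RpushQCT
import Groth.Agent.L17.IndRpush.CohIn

/-!
# The derived direct image preserves quasi-coherent torsion cohomology
-/

set_option autoImplicit false
set_option linter.style.haveILetI false
set_option linter.unusedSectionVars false
set_option backward.defeqAttrib.useBackward true
set_option backward.isDefEq.respectTransparency false
set_option backward.isDefEq.respectTransparency.types false

universe u

open CategoryTheory CategoryTheory.Limits AlgebraicGeometry TopologicalSpace Opposite DerivedCategory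

attribute [local instance] HasDerivedCategory.standard

noncomputable section

namespace Groth.L04.FTorsD

open Groth.L17.FSheaf Groth.L09.IndCoh Groth.L28.QCT Groth.L17.IndRpush

variable {𝔛 𝔜 : FSch.Sys.{u}} (hX : 𝔛.IsLocNoethFormal) (hY : 𝔜.IsLocNoethFormal) (f : 𝔛 ⟶ 𝔜)

theorem isTorsF_zero {M : FSch.ModF 𝔛 hX.1} (hM : IsZero M) : _root_.FTors.IsTorsF 𝔛 hX.1 M := fun U s => by
  have h1 : s = 0 := (apF_congr hX (f := 𝟙 M) (g := 0) ((IsZero.iff_id_eq_zero M).1 hM) U s)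
  rw [h1]
  exact _root_.FTors.IsTorsSect.zero _ _ U

/-- Quasi-coherent torsion modules form a weak Serre class. -/
theorem weakSerre_qct [CompactSpace (𝔛.X 0)] : WSerre.IsWeakSerre (_root_.FTors.IsQCT 𝔛 hX.1) := by
  have hi := weakSerre_ind hX
  have key : ∀ M : FSch.ModF 𝔛 hX.1, _root_.FTors.IsQCT 𝔛 hX.1 M ↔ _root_.FTors.IsTorsF 𝔛 hX.1 M ∧ ind hX M :=
    fun M => ⟨fun h => ⟨h.1, (ind_iff_good hX).2 (good_of_isQCT hX h)⟩,
      fun h => isQCT_of_good hX h.1 ((ind_iff_good hX).1 h.2)⟩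
  have hz : (_root_.FTors.IsQCT 𝔛 hX.1).ContainsZero :=
    ⟨⟨_, isZero_zero _, (key _).2 ⟨isTorsF_zero hX (isZero_zero _),
      (ind_iff_good hX).2 (good_coh hX (isCohF_zero hX (isZero_zero _)))⟩⟩⟩
  have hk : (_root_.FTors.IsQCT 𝔛 hX.1).IsClosedUnderKernels := ⟨by
    rintro _ ⟨g, c, hc, hM, hN⟩
    haveI := Fork.IsLimit.mono hc
    exact (key _).2 ⟨Groth.L28.QCT.isTorsF_of_mono hX c.ι hM.1,
      hi.toIsClosedUnderKernels.kernels_le _ ⟨g, c, hc, ((key _).1 hM).2, ((key _).1 hN).2⟩⟩⟩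
  have hc : (_root_.FTors.IsQCT 𝔛 hX.1).IsClosedUnderCokernels := ⟨by
    rintro _ ⟨g, c, hc, hM, hN⟩
    haveI := Cofork.IsColimit.epi hc
    exact (key _).2 ⟨Groth.L28.QCT.isTorsF_of_epi hX c.π hN.1,
      hi.toIsClosedUnderCokernels.cokernels_le _ ⟨g, c, hc, ((key _).1 hM).2, ((key _).1 hN).2⟩⟩⟩
  have he : (_root_.FTors.IsQCT 𝔛 hX.1).IsClosedUnderExtensions := ⟨fun {S} hS h1 h3 =>
    (key _).2 ⟨Groth.L28.QCT.isTorsF_mid hX S.f S.g (shortExact_sections hX hS) h1.1 h3.1,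
      hi.toIsClosedUnderExtensions.prop_X₂_of_shortExact hS ((key _).1 h1).2 ((key _).1 h3).2⟩⟩
  exact { toContainsZero := hz }

/-- Coherent torsion modules form a weak Serre class. -/
theorem weakSerre_cohTors [CompactSpace (𝔛.X 0)] :
    WSerre.IsWeakSerre (_root_.FTors.IsQCT 𝔛 hX.1 ⊓ coh hX) := by
  have h1 := weakSerre_qct hX
  have h2 := weakSerre_coh hX
  have hz : (_root_.FTors.IsQCT 𝔛 hX.1 ⊓ coh hX).ContainsZero :=
    ⟨⟨_, isZero_zero _, ObjectProperty.prop_zero _, ObjectProperty.prop_zero _⟩⟩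
  have hk : (_root_.FTors.IsQCT 𝔛 hX.1 ⊓ coh hX).IsClosedUnderKernels := ⟨by
    rintro _ ⟨g, c, hc, hM, hN⟩
    exact ⟨h1.toIsClosedUnderKernels.kernels_le _ ⟨g, c, hc, hM.1, hN.1⟩,
      h2.toIsClosedUnderKernels.kernels_le _ ⟨g, c, hc, hM.2, hN.2⟩⟩⟩
  have hc : (_root_.FTors.IsQCT 𝔛 hX.1 ⊓ coh hX).IsClosedUnderCokernels := ⟨by
    rintro _ ⟨g, c, hc, hM, hN⟩
    exact ⟨h1.toIsClosedUnderCokernels.cokernels_le _ ⟨g, c, hc, hM.1, hN.1⟩,
      h2.toIsClosedUnderCokernels.cokernels_le _ ⟨g, c, hc, hM.2, hN.2⟩⟩⟩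
  have he : (_root_.FTors.IsQCT 𝔛 hX.1 ⊓ coh hX).IsClosedUnderExtensions := ⟨fun {S} hS a b =>
    ⟨h1.toIsClosedUnderExtensions.prop_X₂_of_shortExact hS a.1 b.1,
      h2.toIsClosedUnderExtensions.prop_X₂_of_shortExact hS a.2 b.2⟩⟩
  exact { toContainsZero := hz }

variable [CompactSpace (𝔛.X 0)] [CompactSpace (𝔜.X 0)] [HasInjectiveResolutions (FSch.ModF 𝔛 hX.1)]

/-- Higher direct images of quasi-coherent torsion modules are quasi-coherent torsion. -/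
theorem isQCT_rpush {M : FSch.ModF 𝔛 hX.1} (hM : _root_.FTors.IsQCT 𝔛 hX.1 M) (p : ℕ) :
    _root_.FTors.IsQCT 𝔜 hY.1 (((fm hX hY.1 f).Rpush p).obj M) := by
  obtain ⟨Λ, _, _, D, c, hcc, rfl, hD⟩ := exists_colimit_tors hX hM
  have hc := fun (V : (𝔜.X 0).Opens) (_ : IsAffineOpen V) =>
    isCompact_of_compactSpace hX ((f : FSch.Hom 𝔛 𝔜).app 0 ⁻¹ᵁ V)
  obtain ⟨_, _, -⟩ := Groth.L10.ModRDer.insts (𝔛.Osh hX.1)
  haveI : IsGrothendieckAbelian.{u} (FSch.ModF 𝔛 hX.1) := Groth.L10.shMod_isGrothendieckAbelian _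
  haveI : IsGrothendieckAbelian.{u} (FSch.ModF 𝔜 hY.1) := Groth.L10.shMod_isGrothendieckAbelian _
  haveI : SiteCmp.HasRpushD (fm hX hY.1 f) := Groth.L10.KInjDerived.hasRightDerivedFunctor _
  haveI := preservesColimitsOfShape_push hX hY.1 f hc Λ
  haveI : PreservesFiniteLimits (fm hX hY.1 f).push := inferInstance
  obtain ⟨E, e, ⟨he⟩, ⟨ept⟩, hE⟩ := ColimDer.exists_rightDerived_colimit
    ((SiteCmp.pushKh (fm hX hY.1 f)).totalRightDerivedUnit DerivedCategory.Qh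
      (HomotopyCategory.quasiIso (FSch.ModF 𝔛 hX.1) (ComplexShape.up ℤ)))
    (acColim hX hY.1 f hc Λ) D c hcc p
  exact isQCT_of_iso hY ept (isQCT_colim hY he fun j =>
    isQCT_of_iso hY (hE j).some.symm (isQCT_rpush_coh hX hY f (hD j).1 (hD j).2 p))

theorem isDQCT_RpushD [SiteCmp.HasRpushD (fm hX hY.1 f)] (K : DerivedCategory (FSch.ModF 𝔛 hX.1))
    (hK : _root_.FTors.IsDQCT 𝔛 hX.1 K) :
    _root_.FTors.IsDQCT 𝔜 hY.1 ((SiteCmp.RpushD (fm hX hY.1 f)).obj K) := fun i =>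
  haveI := weakSerre_qct hX
  haveI := weakSerre_qct hY
  prop_H_RpushD hX hY.1 f (_root_.FTors.IsQCT 𝔛 hX.1)
    (fun _ hM => (ind_iff_good hX).2 (good_of_isQCT hX hM)) (_root_.FTors.IsQCT 𝔜 hY.1)
    (fun _ hM p => isQCT_rpush hX hY f hM p) K hK i

theorem isCohF_hMod_RpushD [AlgebraicGeometry.IsProper ((f : FSch.Hom 𝔛 𝔜).app 0)]
    [SiteCmp.HasRpushD (fm hX hY.1 f)] (K : DerivedCategory (FSch.ModF 𝔛 hX.1))
    (hK : _root_.FTors.IsDQCT 𝔛 hX.1 K) (hKc : ∀ i : ℤ, FSch.IsCohF 𝔛 hX.1 (SiteCmp.HMod K i)) (i : ℤ) :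
    FSch.IsCohF 𝔜 hY.1 (SiteCmp.HMod ((SiteCmp.RpushD (fm hX hY.1 f)).obj K) i) :=
  haveI := weakSerre_cohTors hX
  haveI := weakSerre_coh hY
  prop_H_RpushD hX hY.1 f (_root_.FTors.IsQCT 𝔛 hX.1 ⊓ coh hX)
    (fun _ hM => (ind_iff_good hX).2 (good_of_isQCT hX hM.1)) (coh hY)
    (fun M hM p => by
      obtain ⟨k, hk⟩ := exists_killedAll hX hM.2 hM.1.1
      exact isCohF_rpush_coh hX hY f k M hM.2 hk p) K (fun j => ⟨hK j, hKc j⟩) i

end Groth.L04.FTorsD
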